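import Cfsg.Agent.Bender.LemmaA.SquareMap
import Cfsg.Agent.AutFrattini.Basic
import Cfsg.Agent.Solvable.PGroupBasic

/-!
The counting consequence of Lemma A: the group generated by the fixed-point-free element and the group of odd
order has at most as many elements as the two-group modulo its involutions.
-/

set_option autoImplicit false
set_option linter.style.haveILetI false
set_option linter.unusedSectionVars false

namespace CfsgLib.Bender.SquareMap

open Subgroup Finset
open scoped commutatorElement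

universe u v

/-- A commutative group of automorphisms of odd order of an elementary abelian two-group is no larger
than the group. -/
theorem card_le_of_abelian : ∀ (n : ℕ) {U : Type u} [CommGroup U] [Finite U], Nat.card U = n →
    (∀ x : U, x ^ 2 = 1) → ∀ X : Subgroup (MulAut U), Odd (Nat.card X) →
      (∀ a ∈ X, ∀ b ∈ X, a * b = b * a) → Nat.card X ≤ n := by
  intro n
  induction n using Nat.strong_induction_on with
  | _ n ih => ?_
  intro U _ _ hn h2 X hodd hcom
  classical
  by_cases htriv : ∀ w : U, w = 1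
  · haveI : Subsingleton X := ⟨fun a b => Subtype.ext (MulEquiv.ext fun w => by
      rw [htriv ((a : MulAut U) w), htriv ((b : MulAut U) w)])⟩
    rw [Nat.card_unique, ← hn]
    exact Nat.card_pos
  push Not at htriv
  obtain ⟨w, hw⟩ := htriv
  obtain ⟨Y, hYd⟩ : ∃ Y : Subgroup (MulAut U), ∀ y, y ∈ Y ↔ y ∈ X ∧ y w = w :=
    ⟨X ⊓ MulAction.stabilizer (MulAut U) w, fun y => Iff.rfl⟩
  haveI : Finite (MulAut U) := Finite.of_injective _ DFunLike.coe_injective
  by_cases hY : Y = ⊥
  · rw [← hn]
    refine Nat.card_le_card_of_injective (fun x : X => (x : MulAut U) w) fun a b hab => ?_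
    refine Subtype.ext (inv_mul_eq_one.1 ((Subgroup.mem_bot).1 (hY ▸ (hYd ((a : MulAut U)⁻¹ * b)).2
      ⟨mul_mem (inv_mem a.2) b.2, ?_⟩)))
    have e : (a : MulAut U) w = (b : MulAut U) w := hab
    rw [MulAut.mul_apply, ← e, MulAut.inv_apply_self]
  haveI : Fintype Y := Fintype.ofFinite Y
  let e : U →* U :=
    { toFun := fun v => ∏ y : Y, (y : MulAut U) v
      map_one' := Finset.prod_eq_one fun y _ => map_one (y : MulAut U)
      map_mul' := fun a b => by simp only [map_mul, Finset.prod_mul_distrib] }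
  have hYX : ∀ y ∈ Y, y ∈ X := fun y hy => ((hYd y).1 hy).1
  have heX : ∀ x ∈ X, ∀ v, x (e v) = e (x v) := by
    intro x hx v
    show x (∏ y : Y, (y : MulAut U) v) = ∏ y : Y, (y : MulAut U) (x v)
    rw [map_prod]
    refine Finset.prod_congr rfl fun y _ => ?_
    rw [← MulAut.mul_apply, ← MulAut.mul_apply, hcom x hx y (hYX y y.2)]
  have heY : ∀ y₀ ∈ Y, ∀ v, y₀ (e v) = e v := by
    intro y₀ hy₀ v
    show y₀ (∏ y : Y, (y : MulAut U) v) = ∏ y : Y, (y : MulAut U) v
    rw [map_prod]
    exact Fintype.prod_equiv (Equiv.mulLeft ⟨y₀, hy₀⟩) _ _ fun y => rfl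
  have hefix : ∀ v, (∀ y ∈ Y, y v = v) → e v = v := by
    intro v hv
    show ∏ y : Y, (y : MulAut U) v = v
    rw [Finset.prod_congr rfl fun (y : Y) _ => hv y y.2, Finset.prod_const, Finset.card_univ, ← Nat.card_eq_fintype_card]
    obtain ⟨m, hm⟩ : Odd (Nat.card Y) := hodd.of_dvd_nat (Subgroup.card_dvd_of_le fun y hy => hYX y hy)
    rw [hm, pow_succ, pow_mul, h2, one_pow, one_mul]
  have hee : ∀ v, e (e v) = e v := fun v => hefix _ fun y hy => heY y hy v
  have hew : e w = w := hefix w fun y hy => ((hYd y).1 hy).2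
  have hU1 : e.range ≠ ⊤ := by
    intro h
    refine hY ((Subgroup.eq_bot_iff_forall _).2 fun y hy => MulEquiv.ext fun v => ?_)
    obtain ⟨v', rfl⟩ := h.symm.le (mem_top v)
    exact heY y hy v'
  have hU1' : e.range ≠ ⊥ := by
    intro h
    exact hw ((Subgroup.mem_bot).1 (h ▸ (⟨w, hew⟩ : w ∈ e.range)))
  have hker : e.ker ≠ ⊤ := fun h => hw (hew.symm.trans (MonoidHom.mem_ker.1 (h ▸ mem_top w)))
  have hprod : Nat.card e.range * Nat.card e.ker = Nat.card U := by
    rw [← Subgroup.index_ker, mul_comm, Subgroup.card_mul_index]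
  have hlt1 : Nat.card e.range < n := by
    rw [← hn]
    rcases lt_or_eq_of_le (card_le_card_group e.range) with h | h
    · exact h
    · exact absurd (eq_top_of_card_eq _ h) hU1
  have hlt2 : Nat.card e.ker < n := by
    rw [← hn]
    rcases lt_or_eq_of_le (card_le_card_group e.ker) with h | h
    · exact h
    · exact absurd (eq_top_of_card_eq _ h) hker
  have hi1 : ∀ x : X, ∀ v ∈ e.range, (x : MulAut U) v ∈ e.range := by
    rintro x _ ⟨v, rfl⟩
    exact ⟨(x : MulAut U) v, (heX x x.2 v).symm⟩
  have hi2 : ∀ x : X, ∀ v ∈ e.ker, (x : MulAut U) v ∈ e.ker := fun x v hv => by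
    rw [MonoidHom.mem_ker] at *
    rw [← heX x x.2, hv, map_one]
  let ρ1 := restrict X.subtype e.range hi1
  let ρ2 := restrict X.subtype e.ker hi2
  haveI : Finite (MulAut e.range) := Finite.of_injective _ DFunLike.coe_injective
  haveI : Finite (MulAut e.ker) := Finite.of_injective _ DFunLike.coe_injective
  have hb : ∀ {W : Subgroup U} (ρ : X →* MulAut W), Nat.card W < n → Nat.card ρ.range ≤ Nat.card W := by
    intro W ρ hW
    refine ih _ hW rfl (fun x => Subtype.ext (by simp [h2])) ρ.range
      (hodd.of_dvd_nat (Subgroup.card_range_dvd ρ)) ?_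
    rintro _ ⟨a, rfl⟩ _ ⟨b, rfl⟩
    rw [← map_mul, ← map_mul, show a * b = b * a from Subtype.ext (hcom a a.2 b b.2)]
  calc Nat.card X ≤ Nat.card (ρ1.range × ρ2.range) := by
        refine Nat.card_le_card_of_injective
          (fun x => ((⟨ρ1 x, x, rfl⟩ : ρ1.range), (⟨ρ2 x, x, rfl⟩ : ρ2.range))) fun a b hab => ?_
        obtain ⟨ha, hb'⟩ := Prod.ext_iff.1 hab
        refine Subtype.ext (MulEquiv.ext fun v => ?_)
        have hk : (e v)⁻¹ * v ∈ e.ker := by
          rw [MonoidHom.mem_ker, map_mul, map_inv, hee, inv_mul_cancel]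
        have h1 := congrArg Subtype.val (DFunLike.congr_fun (congrArg Subtype.val ha) ⟨e v, ⟨v, rfl⟩⟩)
        have h3 := congrArg Subtype.val (DFunLike.congr_fun (congrArg Subtype.val hb') ⟨_, hk⟩)
        have h1' : (a : MulAut U) (e v) = (b : MulAut U) (e v) := h1
        have h3' : (a : MulAut U) ((e v)⁻¹ * v) = (b : MulAut U) ((e v)⁻¹ * v) := h3
        calc (a : MulAut U) v = (a : MulAut U) (e v) * (a : MulAut U) ((e v)⁻¹ * v) := by
              rw [← map_mul, mul_inv_cancel_left]
          _ = (b : MulAut U) v := by rw [h1', h3', ← map_mul, mul_inv_cancel_left]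
    _ ≤ Nat.card e.range * Nat.card e.ker := by
        rw [Nat.card_prod]
        exact Nat.mul_le_mul (hb ρ1 hlt1) (hb ρ2 hlt2)
    _ = n := by rw [hprod, hn]

theorem eq_one_of_trivial_mod_frattini {P : Type u} [Group P] [Finite P] (hP : IsPGroup 2 P) (σ : MulAut P)
    (hσ : Odd (orderOf σ)) (h : ∀ x : P, σ x * x⁻¹ ∈ frattini P) : σ = 1 := by
  haveI : Fact (Nat.Prime 2) := ⟨Nat.prime_two⟩
  obtain ⟨n, hn⟩ := IsPGroup.iff_card.1 hP
  obtain ⟨i, hi⟩ := hP.index (frattini P)
  have hall : ∀ α ∈ zpowers σ, ∀ x : P, α x * x⁻¹ ∈ frattini P := by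
    let N : Subgroup (MulAut P) :=
      { carrier := {α | ∀ x : P, α x * x⁻¹ ∈ frattini P}
        one_mem' := fun x => by simp
        mul_mem' := by
          intro a b ha hb x
          have := mul_mem (ha (b x)) (hb x)
          rwa [mul_assoc, inv_mul_cancel_left] at this
        inv_mem' := by
          intro a ha x
          have := inv_mem (ha (a⁻¹ x))
          rwa [MulAut.apply_inv_self, mul_inv_rev, inv_inv] at this }
    exact fun α hα => (zpowers_le (H := N)).2 h hα
  obtain ⟨j, -, hj⟩ := (Nat.dvd_prime_pow Nat.prime_two).1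
    (CfsgLib.AutFrattini.card_dvd_of_trivial_mod_frattini hn hi (zpowers σ) hall)
  rw [Nat.card_zpowers] at hj
  rw [← orderOf_eq_one_iff, hj]
  rcases Nat.eq_zero_or_pos j with rfl | hpos
  · rfl
  · exfalso
    rw [hj, Nat.odd_iff, show j = (j - 1) + 1 by omega, pow_succ, Nat.mul_mod_left] at hσ
    omega

/-- The powers of a fixed-point-free automorphism of prime order are fixed-point-free. -/
theorem pow_fixfree {P : Type u} [Group P] {r : ℕ} [Fact r.Prime] {L : MulAut P} (hL : L ^ r = 1)
    (hfix : ∀ s, L s = s → s = 1) : ∀ i, 0 < i → i < r → ∀ s, (L ^ i) s = s → s = 1 := by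
  intro i hi hir s hs
  have hco : i.Coprime (orderOf L) := Nat.Coprime.coprime_dvd_right (orderOf_dvd_of_pow_eq_one hL)
    ((Fact.out : r.Prime).coprime_iff_not_dvd.2 fun h =>
      absurd (Nat.le_of_dvd hi h) (not_le.2 hir)).symm
  obtain ⟨m, hm⟩ := exists_pow_eq_self_of_coprime hco
  refine hfix s (hm ▸ ?_)
  exact (show ∀ n : ℕ, ((L ^ i) ^ n) s = s from fun n => by
    induction n with
    | zero => rfl
    | succ n ih => rw [pow_succ, MulAut.mul_apply, hs, ih]) m

/-- `r` times a commutative group of odd order, as it acts, times the number of involutions and one is at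
most the order of the two-group. -/
theorem mul_card_le_of_comm {A : Type v} [Group A] [Finite A] (hA : Odd (Nat.card A)) {r : ℕ}
    [Fact r.Prime] (hr : Odd r) (hrA : ¬ r ∣ Nat.card A) {P : Type u} [Group P] [Finite P]
    (hP : IsPGroup 2 P) (ρ : A →* MulAut P) (hAcom : ∀ a b : A, ρ a * ρ b = ρ b * ρ a) (L : MulAut P)
    (hL : L ^ r = 1) (hLA : ∀ a, ρ a * L = L * ρ a)
    (hfix : ∀ s, L s = s → s = 1) (hinvfix : ∀ a, ∀ s : P, s ^ 2 = 1 → ρ a s = s)
    (hbig : ∃ s : P, s ^ 2 ≠ 1)
    (hWc : ∀ s t : P, s ^ 2 = 1 → t ^ 2 = 1 → s * t = t * s) :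
    r * Nat.card ρ.range * Nat.card {s : P // s ^ 2 = 1} ≤ Nat.card P := by
  classical
  haveI : Fact (Nat.Prime 2) := ⟨Nat.prime_two⟩
  haveI : Finite (MulAut P) := Finite.of_injective _ DFunLike.coe_injective
  obtain ⟨X, hXd⟩ : ∃ X : Subgroup (MulAut P), X = ρ.range ⊔ zpowers L := ⟨_, rfl⟩
  have hcL : ∀ a ∈ ρ.range, ∀ m : ℤ, a * L ^ m = L ^ m * a := by
    rintro _ ⟨a, rfl⟩ m
    exact (Commute.zpow_right (hLA a) m)
  have hmem : ∀ x, x ∈ X ↔ ∃ a ∈ ρ.range, ∃ m : ℤ, x = a * L ^ m := by
    intro x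
    constructor
    · intro hx
      let Z : Subgroup (MulAut P) :=
        { carrier := {x | ∃ a ∈ ρ.range, ∃ m : ℤ, x = a * L ^ m}
          one_mem' := ⟨1, one_mem _, 0, by simp⟩
          mul_mem' := by
            rintro _ _ ⟨a, ha, m, rfl⟩ ⟨b, hb, m', rfl⟩
            refine ⟨a * b, mul_mem ha hb, m + m', ?_⟩
            rw [zpow_add, mul_assoc a, ← mul_assoc (L ^ m) b, ← hcL b hb m]
            group
          inv_mem' := by
            rintro _ ⟨a, ha, m, rfl⟩
            refine ⟨a⁻¹, inv_mem ha, -m, ?_⟩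
            rw [mul_inv_rev, zpow_neg, ← zpow_neg, hcL _ (inv_mem ha) (-m)] }
      have hle : X ≤ Z := by
        rw [hXd, sup_le_iff, zpowers_le]
        exact ⟨fun a ha => ⟨a, ha, 0, by simp⟩, ⟨1, one_mem _, 1, by simp⟩⟩
      exact hle hx
    · rintro ⟨a, ha, m, rfl⟩
      exact hXd ▸ mul_mem (mem_sup_left ha) (mem_sup_right (zpow_mem_zpowers L m))
  have hXcom : ∀ a ∈ X, ∀ b ∈ X, a * b = b * a := by
    intro x hx y hy
    obtain ⟨a, ha, m, rfl⟩ := (hmem x).1 hx
    obtain ⟨b, hb, m', rfl⟩ := (hmem y).1 hy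
    have hab : a * b = b * a := by
      obtain ⟨a', rfl⟩ := ha
      obtain ⟨b', rfl⟩ := hb
      exact hAcom a' b'
    calc a * L ^ m * (b * L ^ m') = a * (L ^ m * b) * L ^ m' := by group
      _ = a * b * (L ^ m * L ^ m') := by rw [← hcL b hb m]; group
      _ = b * a * (L ^ m' * L ^ m) := by rw [hab, ← zpow_add, ← zpow_add, add_comm]
      _ = b * (L ^ m' * a) * L ^ m := by rw [← hcL a ha m']; group
      _ = b * L ^ m' * (a * L ^ m) := by group
  have hrodd : ∀ x ∈ X, x ^ (r * Nat.card A) = 1 := by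
    intro x hx
    obtain ⟨a, ⟨a', rfl⟩, m, rfl⟩ := (hmem x).1 hx
    have e1 : ρ a' ^ (r * Nat.card A) = 1 := by rw [← map_pow, mul_comm, pow_mul, pow_card_eq_one', one_pow, map_one]
    have e2 : (L ^ m) ^ (r * Nat.card A) = 1 := by
      have h : (L ^ m) ^ r = 1 := by
        rw [← zpow_natCast, ← zpow_mul, mul_comm, zpow_mul, zpow_natCast, hL, one_zpow]
      rw [pow_mul, h, one_pow]
    rw [Commute.mul_pow (hcL _ ⟨a', rfl⟩ m), e1, e2, one_mul]
  -- the quotient
  have hWcl : ∀ s ∈ closure {s : P | s ^ 2 = 1}, s ^ 2 = 1 := by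
    intro s hs
    have hc : ∀ t ∈ closure {s : P | s ^ 2 = 1}, ∀ t' ∈ closure {s : P | s ^ 2 = 1}, t * t' = t' * t := by
      intro t ht t' ht'
      have h1 : closure {s : P | s ^ 2 = 1} ≤ centralizer {s : P | s ^ 2 = 1} := by
        rw [closure_le]
        intro a ha
        rw [SetLike.mem_coe, mem_centralizer_iff]
        exact fun b hb => hWc b a hb ha
      have h2 : closure {s : P | s ^ 2 = 1} ≤ centralizer ({t'} : Set P) := by
        rw [closure_le]
        intro a ha
        rw [SetLike.mem_coe, mem_centralizer_iff]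
        rintro b rfl
        exact (mem_centralizer_iff.1 (h1 ht') a ha).symm
      exact ((mem_centralizer_iff.1 (h2 ht)) t' rfl).symm
    induction hs using closure_induction with
    | mem t ht => exact ht
    | one => exact one_pow 2
    | mul t t' ht ht' e e' => rw [mul_pow_two_of_comm (hc t ht t' ht'), e, e', mul_one]
    | inv t ht e => rw [inv_pow, e, inv_one]
  obtain ⟨Q, hQd⟩ : ∃ Q, Q = closure {s : P | s ^ 2 = 1} ⊔ frattini P := ⟨_, rfl⟩
  have hWσ : ∀ σ : MulAut P, ∀ s ∈ closure {s : P | s ^ 2 = 1}, σ s ∈ closure {s : P | s ^ 2 = 1} := fun σ s hs =>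
    subset_closure (show σ s ^ 2 = 1 by rw [← map_pow, hWcl s hs, map_one])
  have hQσ : ∀ σ : MulAut P, ∀ s ∈ Q, σ s ∈ Q := by
    intro σ s hs
    have : Q ≤ Q.comap σ.toMonoidHom := by
      conv_lhs => rw [hQd]
      refine sup_le (fun t ht => ?_) fun t ht => ?_
      · exact hQd ▸ mem_sup_left (hWσ σ t ht)
      · exact hQd ▸ mem_sup_right ((Subgroup.characteristic_iff_le_comap.1 frattini_characteristic σ) ht)
    exact this hs
  haveI hQn : Q.Normal := ⟨fun s hs g => hQσ (MulAut.conj g) s hs⟩
  have hQtop : Q ≠ ⊤ := by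
    intro h
    obtain ⟨s, hs⟩ := hbig
    have := frattini_nongenerating (K := closure {s : P | s ^ 2 = 1}) (hQd ▸ h)
    exact hs (hWcl s (this.symm ▸ mem_top s))
  have hsqQ : ∀ s : P, s ^ 2 ∈ Q := fun s => hQd ▸ mem_sup_right (sq_mem_frattini hP s)
  have hU2 : ∀ x : P ⧸ Q, x ^ 2 = 1 := fun x => by
    obtain ⟨y, rfl⟩ := QuotientGroup.mk'_surjective Q x
    rw [← map_pow]
    exact (QuotientGroup.eq_one_iff _).2 (hsqQ y)
  letI : CommGroup (P ⧸ Q) :=
    { (inferInstance : Group (P ⧸ Q)) with
      mul_comm := fun x y => by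
        have e : ∀ z : P ⧸ Q, z⁻¹ = z := fun z => inv_eq_of_mul_eq_one_right ((pow_two z).symm.trans (hU2 z))
        calc x * y = (x * y)⁻¹ := (e _).symm
          _ = y * x := by rw [mul_inv_rev, e, e] }
  let E : X →* MulAut (P ⧸ Q) :=
    { toFun := fun σ =>
        { toFun := QuotientGroup.map Q Q (σ : MulAut P).toMonoidHom fun s hs => hQσ _ s hs
          invFun := QuotientGroup.map Q Q ((σ : MulAut P)⁻¹).toMonoidHom fun s hs => hQσ _ s hs
          left_inv := fun a => by
            induction a using QuotientGroup.induction_on with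
            | H u => simp
          right_inv := fun a => by
            induction a using QuotientGroup.induction_on with
            | H u => simp
          map_mul' := map_mul _ }
      map_one' := by
        ext a
        induction a using QuotientGroup.induction_on with
        | H u => rfl
      map_mul' := fun s t => by
        ext a
        induction a using QuotientGroup.induction_on with
        | H u => rfl }
  have hrcop : ∀ m : ℤ, L ^ m ∈ ρ.range → L ^ m = 1 := by
    intro m hm
    rw [← orderOf_eq_one_iff]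
    have h1 : orderOf (L ^ m) ∣ r := orderOf_dvd_of_pow_eq_one (by
      rw [← zpow_natCast, ← zpow_mul, mul_comm, zpow_mul, zpow_natCast, hL, one_zpow])
    refine ((Fact.out : r.Prime).eq_one_or_self_of_dvd _ h1).resolve_right fun he => hrA ?_
    obtain ⟨a, ha⟩ := hm
    rw [← he, ← ha]
    exact (orderOf_map_dvd ρ a).trans (orderOf_dvd_natCard a)
  have hinj : Function.Injective E := by
    rw [injective_iff_map_eq_one]
    rintro ⟨x, hx⟩ he
    obtain ⟨a, ⟨a', rfl⟩, m, rfl⟩ := (hmem x).1 hx
    have hmod : ∀ s : P, s⁻¹ * (ρ a' * L ^ m) s ∈ Q := fun s => by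
      have h3 : QuotientGroup.mk' Q ((ρ a' * L ^ m) s) = QuotientGroup.mk' Q s :=
        DFunLike.congr_fun he (QuotientGroup.mk' Q s)
      exact QuotientGroup.eq.1 h3.symm
    -- the cyclic part is trivial
    obtain ⟨N, hN⟩ : ∃ N : ℕ, N = Nat.card A := ⟨_, rfl⟩
    have hLN : ∀ s : P, s⁻¹ * ((L ^ m) ^ N) s ∈ Q := by
      intro s
      have hp : ∀ j : ℕ, s⁻¹ * ((ρ a' * L ^ m) ^ j) s ∈ Q := by
        intro j
        induction j with
        | zero => simp
        | succ j ihj =>
          rw [pow_succ', MulAut.mul_apply]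
          have := mul_mem ihj (hmod (((ρ a' * L ^ m) ^ j) s))
          rwa [mul_assoc, mul_inv_cancel_left] at this
      have := hp N
      rwa [Commute.mul_pow (hcL _ ⟨a', rfl⟩ m), ← map_pow, hN, pow_card_eq_one', map_one, one_mul, ← hN] at this
    have hLm : L ^ m = 1 := by
      by_contra hne
      have ho : orderOf (L ^ m) = r := orderOf_eq_prime (by
        rw [← zpow_natCast, ← zpow_mul, mul_comm, zpow_mul, zpow_natCast, hL, one_zpow]) hne
      -- the generated group contains the element itself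
      have hgen : ∃ j : ℕ, ((L ^ m) ^ N) ^ j = L := by
        have hLne : L ≠ 1 := fun h => hne (by rw [h, one_zpow])
        have hLo : orderOf L = r := orderOf_eq_prime hL hLne
        have hmem' : L ∈ zpowers ((L ^ m) ^ N) := by
          have hle : zpowers ((L ^ m) ^ N) ≤ zpowers L := zpowers_le.2 (pow_mem (zpow_mem_zpowers L m) N)
          have hc : Nat.card (zpowers ((L ^ m) ^ N)) = r := by
            rw [Nat.card_zpowers, orderOf_pow, ho, ((Fact.out : r.Prime).coprime_iff_not_dvd.2 (hN ▸ hrA)).gcd_eq_one,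
              Nat.div_one]
          exact (eq_of_le_of_card_ge hle (by rw [hc, Nat.card_zpowers, hLo])).symm ▸ mem_zpowers L
        exact mem_powers_iff_mem_zpowers.2 hmem'
      obtain ⟨j, hj⟩ := hgen
      have hLQ : ∀ s : P, s⁻¹ * L s ∈ Q := by
        have hp : ∀ (i : ℕ) (s : P), s⁻¹ * (((L ^ m) ^ N) ^ i) s ∈ Q := by
          intro i
          induction i with
          | zero => intro s; simp
          | succ i ihi =>
            intro s
            rw [pow_succ', MulAut.mul_apply]
            have := mul_mem (ihi s) (hLN ((((L ^ m) ^ N) ^ i) s))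
            rwa [mul_assoc, mul_inv_cancel_left] at this
        exact fun s => hj ▸ hp j s
      -- a coset fixed by `L` contains a fixed element
      obtain ⟨s, hs⟩ : ∃ s : P, s ∉ Q := by
        by_contra h
        push Not at h
        exact hQtop ((eq_top_iff' Q).2 h)
      letI : MulAction (zpowers L) {y : P // s⁻¹ * y ∈ Q} :=
        { smul := fun σ y => ⟨(σ : MulAut P) y.1, by
            obtain ⟨i, hi⟩ := mem_powers_iff_mem_zpowers.2 σ.2
            have hi' : (σ : MulAut P) = L ^ i := hi.symm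
            have hp : ∀ i : ℕ, s⁻¹ * (L ^ i) y.1 ∈ Q := by
              intro i
              induction i with
              | zero => simpa using y.2
              | succ i ihi =>
                rw [pow_succ', MulAut.mul_apply]
                have := mul_mem ihi (hLQ ((L ^ i) y.1))
                rwa [mul_assoc, mul_inv_cancel_left] at this
            rw [hi']
            exact hp i⟩
          one_smul := fun y => Subtype.ext rfl
          mul_smul := fun σ τ y => Subtype.ext rfl }
      have hpz : IsPGroup r (zpowers L) := by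
        refine IsPGroup.of_card (n := 1) ?_
        rw [pow_one, Nat.card_zpowers, orderOf_eq_prime hL fun h => hne (by rw [h, one_zpow])]
      have hco : ¬ r ∣ Nat.card {y : P // s⁻¹ * y ∈ Q} := by
        rw [Nat.card_congr (Equiv.subtypeEquiv (Equiv.mulLeft s⁻¹) fun y => Iff.rfl :
          {y : P // s⁻¹ * y ∈ Q} ≃ Q)]
        obtain ⟨i, hi⟩ := IsPGroup.iff_card.1 (hP.to_subgroup Q)
        rw [hi]
        intro h
        have h2 := (Fact.out : r.Prime).dvd_of_dvd_pow h
        have := Nat.le_of_dvd two_pos h2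
        have := (Fact.out : r.Prime).two_le
        obtain ⟨q, hq⟩ := hr
        omega
      obtain ⟨⟨y, hy⟩, hyfix⟩ := hpz.nonempty_fixed_point_of_prime_not_dvd_card _ hco
      have hy1 : y = 1 := hfix y (congrArg Subtype.val (hyfix ⟨L, mem_zpowers L⟩))
      rw [hy1, mul_one, inv_mem_iff] at hy
      exact hs hy
    -- the part from the group of odd order is trivial
    have ha1 : ρ a' = 1 := by
      have hfixW : ∀ s ∈ closure {s : P | s ^ 2 = 1}, ρ a' s = s := fun s hs => hinvfix a' s (hWcl s hs)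
      refine eq_one_of_trivial_mod_frattini hP _
        (hA.of_dvd_nat ((orderOf_map_dvd ρ a').trans (orderOf_dvd_natCard a'))) fun s => ?_
      haveI hΦn : (frattini P).Normal := inferInstance
      obtain ⟨c, hc, z, hz, e⟩ := mem_sup_of_normal_right.1 (hQd ▸ (by simpa [hLm] using hmod s) :
        s⁻¹ * ρ a' s ∈ closure {s : P | s ^ 2 = 1} ⊔ frattini P)
      -- modulo the Frattini subgroup the element moves by a fixed element
      have hc1 : c ∈ frattini P := by
        have he' : ρ a' s = s * (c * z) := by rw [e, mul_inv_cancel_left]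
        have hpow : ∀ j : ℕ, s⁻¹ * ((ρ a') ^ j) s * (c ^ j)⁻¹ ∈ frattini P := by
          intro j
          induction j with
          | zero => simp
          | succ j ihj =>
            rw [← QuotientGroup.eq_one_iff] at ihj ⊢
            have hz1 : ((z : P) : P ⧸ frattini P) = 1 := (QuotientGroup.eq_one_iff z).2 hz
            have hρc : ∀ i : ℕ, ((ρ a') ^ i) c = c := by
              intro i
              induction i with
              | zero => rfl
              | succ i ihi => rw [pow_succ', MulAut.mul_apply, ihi, hfixW c hc]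
            have hρz : (((ρ a') ^ j) z : P ⧸ frattini P) = 1 := (QuotientGroup.eq_one_iff _).2
              ((Subgroup.characteristic_iff_le_comap.1 frattini_characteristic _) hz)
            rw [pow_succ, MulAut.mul_apply, he', map_mul, map_mul, hρc, pow_succ']
            simp only [QuotientGroup.mk_mul, QuotientGroup.mk_inv] at ihj ⊢
            rw [hρz, mul_one, mul_inv_rev, mul_assoc, mul_assoc (((ρ a') ^ j) s : P ⧸ frattini P)]
            calc _ = (s : P ⧸ frattini P)⁻¹ * (((ρ a') ^ j) s : P ⧸ frattini P) * ((c : P ⧸ frattini P) *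
                  ((c ^ j : P) : P ⧸ frattini P)⁻¹ * (c : P ⧸ frattini P)⁻¹) := by group
              _ = 1 := by
                rw [← QuotientGroup.mk_inv _ (c ^ j), ← QuotientGroup.mk_mul, ← QuotientGroup.mk_inv _ c,
                  ← QuotientGroup.mk_mul, show c * (c ^ j)⁻¹ * c⁻¹ = (c ^ j)⁻¹ by
                    rw [← inv_pow]; exact (((Commute.refl c).inv_right).pow_right j).mul_inv_cancel,
                  QuotientGroup.mk_inv]
                exact ihj
        have h1 := hpow (Nat.card A)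
        rw [← map_pow, pow_card_eq_one', map_one, MulAut.one_apply, inv_mul_cancel, one_mul, inv_mem_iff] at h1
        obtain ⟨q, hq⟩ := hA
        rw [hq, pow_succ, pow_mul, hWcl c hc, one_pow, one_mul] at h1
        exact h1
      have := mul_mem hc1 hz
      rw [e] at this
      exact hΦn.mem_comm this
    exact Subtype.ext (by
      show ρ a' * L ^ m = 1
      rw [ha1, hLm, one_mul])
  have hXodd : Odd (Nat.card X) := by
    by_contra h
    rw [Nat.not_odd_iff_even, even_iff_two_dvd] at h
    obtain ⟨x, hx⟩ := exists_prime_orderOf_dvd_card' 2 h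
    have h2 : 2 ∣ r * Nat.card A := hx ▸ orderOf_dvd_of_pow_eq_one (Subtype.ext (hrodd x x.2))
    rcases Nat.prime_two.dvd_mul.1 h2 with h3 | h3
    · exact (Nat.not_even_iff_odd.2 hr) (even_iff_two_dvd.2 h3)
    · exact (Nat.not_even_iff_odd.2 hA) (even_iff_two_dvd.2 h3)
  have hXcard : Nat.card X ≤ Nat.card (P ⧸ Q) := by
    have h := card_le_of_abelian (Nat.card (P ⧸ Q)) rfl hU2 E.range
      (hXodd.of_dvd_nat (Subgroup.card_range_dvd E)) (by
        rintro _ ⟨a, rfl⟩ _ ⟨b, rfl⟩
        rw [← map_mul, ← map_mul, show a * b = b * a from Subtype.ext (hXcom a a.2 b b.2)])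
    rwa [Nat.card_congr (MonoidHom.ofInjective hinj).toEquiv.symm] at h
  have hLne : L ≠ 1 := by
    intro h
    obtain ⟨s, hs⟩ := hbig
    exact hs (by rw [hfix s (by rw [h]; rfl), one_pow])
  have hlow : r * Nat.card ρ.range ≤ Nat.card X := by
    rw [show r = Nat.card (zpowers L) by rw [Nat.card_zpowers, orderOf_eq_prime hL hLne], ← Nat.card_prod]
    refine Nat.card_le_card_of_injective (fun p : zpowers L × ρ.range =>
      (⟨(p.2 : MulAut P) * (p.1 : MulAut P), hXd ▸ mul_mem (mem_sup_left p.2.2) (mem_sup_right p.1.2)⟩ : X)) ?_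
    rintro ⟨⟨_, m, rfl⟩, a⟩ ⟨⟨_, m', rfl⟩, b⟩ hab
    have h : (a : MulAut P) * L ^ m = (b : MulAut P) * L ^ m' := congrArg Subtype.val hab
    have h2 : L ^ (m - m') = (a : MulAut P)⁻¹ * b := by
      rw [zpow_sub, eq_inv_mul_iff_mul_eq, ← mul_assoc, h, mul_inv_cancel_right]
    have h3 := hrcop (m - m') (h2 ▸ mul_mem (inv_mem a.2) b.2)
    rw [zpow_sub, mul_inv_eq_one] at h3
    refine Prod.ext (Subtype.ext h3) (Subtype.ext ?_)
    rw [h3] at h
    exact mul_right_cancel h
  calc r * Nat.card ρ.range * Nat.card {s : P // s ^ 2 = 1}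
      ≤ Nat.card (P ⧸ Q) * Nat.card Q := by
        refine Nat.mul_le_mul (hlow.trans hXcard) (Nat.card_le_card_of_injective
          (fun s : {s : P // s ^ 2 = 1} => (⟨s.1, hQd ▸ mem_sup_left (subset_closure s.2)⟩ : Q)) ?_)
        intro x y hxy
        have e' := congrArg Subtype.val hxy
        exact Subtype.ext e'
    _ = Nat.card P := (Subgroup.card_eq_card_quotient_mul_card_subgroup Q).symm

/-- The actions of the elements of the group commute. -/
theorem commute_of_fixfree {A : Type v} [Group A] [Finite A] (hA : Odd (Nat.card A)) {r k : ℕ}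
    (hr : Odd r) (hk : 0 < k) (hdvd : r ∣ 2 ^ k - 1) (hord : ∀ j, 0 < j → j < k → ¬ r ∣ 2 ^ j - 1)
    {P : Type u} [Group P] [Finite P] (hP : IsPGroup 2 P)
    (ρ : A →* MulAut P) (L : MulAut P) (hL : L ^ r = 1) (hLA : ∀ a, ρ a * L = L * ρ a)
    (hfix : ∀ i, 0 < i → i < r → ∀ s, (L ^ i) s = s → s = 1)
    (hinvfix : ∀ a, ∀ s : P, s ^ 2 = 1 → ρ a s = s)
    (hcard : Nat.card {s : P // s ^ 2 = 1} ≤ 2 ^ k) (a b : A) : ρ a * ρ b = ρ b * ρ a := by
  have h := commutator_acts_trivially hA hr hk hdvd hord (Nat.card P) rfl hP ρ L hL hLA hfix hinvfix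
    hcard ⁅a, b⁆ (commutator_mem_commutator (mem_top a) (mem_top b))
  rw [map_commutatorElement, commutatorElement_eq_one_iff_mul_comm] at h
  exact h

/-- `r` times the group of odd order, as it acts, times the number of involutions and one is at most the
order of the two-group. -/
theorem mul_card_le {A : Type v} [Group A] [Finite A] (hA : Odd (Nat.card A)) {r k : ℕ} [Fact r.Prime]
    (hr : Odd r) (hk : 0 < k) (hdvd : r ∣ 2 ^ k - 1) (hord : ∀ j, 0 < j → j < k → ¬ r ∣ 2 ^ j - 1)
    (hrA : ¬ r ∣ Nat.card A) {P : Type u} [Group P] [Finite P] (hP : IsPGroup 2 P)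
    (ρ : A →* MulAut P) (L : MulAut P) (hL : L ^ r = 1) (hLA : ∀ a, ρ a * L = L * ρ a)
    (hfix : ∀ s, L s = s → s = 1) (hinvfix : ∀ a, ∀ s : P, s ^ 2 = 1 → ρ a s = s)
    (hcard : Nat.card {s : P // s ^ 2 = 1} ≤ 2 ^ k) (hbig : ∃ s : P, s ^ 2 ≠ 1)
    (hWc : ∀ s t : P, s ^ 2 = 1 → t ^ 2 = 1 → s * t = t * s) :
    r * Nat.card ρ.range * Nat.card {s : P // s ^ 2 = 1} ≤ Nat.card P :=
  mul_card_le_of_comm hA hr hrA hP ρ
    (commute_of_fixfree hA hr hk hdvd hord hP ρ L hL hLA (pow_fixfree hL hfix) hinvfix hcard)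
    L hL hLA hfix hinvfix hbig hWc

end CfsgLib.Bender.SquareMap
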