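import Cfsg.Agent.Bender.LemmaA.SquareMap
import Mathlib.LinearAlgebra.Dual.Lemmas
import Mathlib.RingTheory.AdjoinRoot
import Mathlib.FieldTheory.Finite.Basic
import Mathlib.FieldTheory.Minpoly.Field
import Mathlib.LinearAlgebra.FiniteDimensional.Basic

/-!
The field generated by an automorphism fixing the involutions of a two-group on a section of it, and
the bound on a group commuting with it.
-/

set_option autoImplicit false
set_option linter.style.haveILetI false
set_option linter.unusedSectionVars false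

namespace CfsgLib.Bender.LemmaBounds

open Polynomial
open scoped commutatorElement

theorem zmod_two : ∀ a : ZMod 2, a = 0 ∨ a = 1 := by decide

/-- An operator preserving a nonzero bilinear form and without proper invariant subgroups for the
operators commuting with it generates a field of even degree. -/
theorem exists_half {M : Type*} [AddCommGroup M] [Module (ZMod 2) M] [Finite M] [Nontrivial M]
    {ι : Type*} (op : ι → Module.End (ZMod 2) M) (T : Module.End (ZMod 2) M)
    (hopc : ∀ i, Commute (op i) T)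
    (hirr : ∀ U : Submodule (ZMod 2) M, (∀ i, ∀ u ∈ U, op i u ∈ U) → U = ⊥ ∨ U = ⊤)
    (hn : Odd (orderOf T)) (hT : T ≠ 1)
    (b : M →ₗ[ZMod 2] M →ₗ[ZMod 2] ZMod 2) (hb : b ≠ 0) (hbT : ∀ x y, b (T x) (T y) = b x y) :
    ∃ d, 0 < d ∧ 2 * d ∣ Module.finrank (ZMod 2) M ∧ orderOf T ∣ 2 ^ d + 1 ∧
      Nat.card {S : Module.End (ZMod 2) M // Commute S T} ≤
        2 ^ (2 * d * ((Module.finrank (ZMod 2) M / (2 * d)) ^ 2)) ∧
      (Module.finrank (ZMod 2) M = 2 * d → ∀ S S' : Module.End (ZMod 2) M, Commute S T →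
        Commute S' T → Commute S S') := by
  classical
  haveI : Fact (Nat.Prime 2) := ⟨Nat.prime_two⟩
  have hz : ∀ a : ZMod 2, a = 0 ∨ a = 1 := zmod_two
  haveI : Nontrivial (Module.End (ZMod 2) M) := ⟨⟨T, 1, hT⟩⟩
  set n := orderOf T with hnd
  have hn1 : n ≠ 1 := fun h => hT (orderOf_eq_one_iff.1 h)
  set P := minpoly (ZMod 2) T with hP
  have hint : IsIntegral (ZMod 2) T := Algebra.IsIntegral.isIntegral T
  have hP0 : P ≠ 0 := minpoly.ne_zero hint
  have haux : ∀ R : (ZMod 2)[X], ∀ i, Commute (op i) (aeval T R) := by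
    intro R i
    induction R using Polynomial.induction_on' with
    | add R S hR hS => rw [map_add]; exact hR.add_right hS
    | monomial k a =>
      rw [aeval_monomial]
      exact (Algebra.commute_algebraMap_right a (op i)).mul_right ((hopc i).pow_right k)
  have hker : ∀ R : (ZMod 2)[X], aeval T R = 0 ∨ Function.Injective (aeval T R) := by
    intro R
    rcases hirr (LinearMap.ker (aeval T R)) (fun i u hu => by
      rw [LinearMap.mem_ker] at hu ⊢
      rw [← Module.End.mul_apply, ← (haux R i).eq, Module.End.mul_apply, hu, map_zero]) with h | h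
    · exact Or.inr (LinearMap.ker_eq_bot.1 h)
    · exact Or.inl (LinearMap.ker_eq_top.1 h)
  have hirred : Irreducible P := by
    refine ⟨minpoly.not_isUnit (ZMod 2) T, fun A B hAB => ?_⟩
    have hA0 : A ≠ 0 := fun h => hP0 (by rw [hAB, h, zero_mul])
    have hB0 : B ≠ 0 := fun h => hP0 (by rw [hAB, h, mul_zero])
    have hdeg : P.natDegree = A.natDegree + B.natDegree := by rw [hAB, natDegree_mul hA0 hB0]
    rcases hker A with hA | hA
    · right
      have h1 := minpoly.degree_le_of_ne_zero (ZMod 2) T hA0 hA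
      rw [← hP, degree_eq_natDegree hP0, degree_eq_natDegree hA0, Nat.cast_le] at h1
      exact isUnit_iff_degree_eq_zero.2 (by rw [degree_eq_natDegree hB0, show B.natDegree = 0 by omega]; rfl)
    · left
      have hB : aeval T B = 0 := by
        refine LinearMap.ext fun v => hA ?_
        show aeval T A (aeval T B v) = aeval T A 0
        rw [map_zero, ← Module.End.mul_apply, ← map_mul, ← hAB, minpoly.aeval]
        rfl
      have h1 := minpoly.degree_le_of_ne_zero (ZMod 2) T hB0 hB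
      rw [← hP, degree_eq_natDegree hP0, degree_eq_natDegree hB0, Nat.cast_le] at h1
      exact isUnit_iff_degree_eq_zero.2 (by rw [degree_eq_natDegree hA0, show A.natDegree = 0 by omega]; rfl)
  haveI : Fact (Irreducible P) := ⟨hirred⟩
  -- the field
  set o := P.natDegree with ho
  let F := AdjoinRoot P
  let θ : F := AdjoinRoot.root P
  let φ : F →ₐ[ZMod 2] Module.End (ZMod 2) M :=
    Ideal.Quotient.liftₐ (Ideal.span {P}) (aeval T) (fun R hR => by
      obtain ⟨S, rfl⟩ := Ideal.mem_span_singleton'.1 hR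
      rw [map_mul, minpoly.aeval, mul_zero])
  have hφθ : φ θ = T := by
    show aeval T (X : (ZMod 2)[X]) = T
    rw [aeval_X]
  have hφinj : Function.Injective φ := φ.toRingHom.injective
  haveI : FiniteDimensional (ZMod 2) F := (AdjoinRoot.powerBasis hP0).finite
  haveI : Finite F := Module.finite_of_finite (ZMod 2)
  haveI : Fintype F := Fintype.ofFinite F
  have hcardF : Nat.card F = 2 ^ o := by
    have h := Module.natCard_eq_pow_finrank (K := ZMod 2) (V := F)
    rw [Nat.card_zmod] at h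
    rw [h, (AdjoinRoot.powerBasis hP0).finrank, AdjoinRoot.powerBasis_dim]
  haveI : CharP F 2 := charP_of_injective_algebraMap (algebraMap (ZMod 2) F).injective 2
  have hθn : θ ^ n = 1 := hφinj (by rw [map_pow, hφθ, map_one, hnd, pow_orderOf_eq_one])
  -- periods of the root
  have hper : ∀ t, 0 < t → θ ^ 2 ^ t = θ → o ≤ t := by
    intro t ht he
    have hall : ∀ x : F, x ^ 2 ^ t = x := by
      intro x
      induction x using AdjoinRoot.induction_on with
      | ih R =>
        rw [← AdjoinRoot.aeval_eq, ← map_pow]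
        induction R using Polynomial.induction_on' with
        | add R S hR hS =>
          rw [map_pow, map_add, add_pow_char_pow, ← map_pow, ← map_pow, hR, hS]
        | monomial k a =>
          rw [map_pow, aeval_monomial, mul_pow, ← pow_mul, mul_comm k, pow_mul, he, ← map_pow,
            show a ^ 2 ^ t = a by
              obtain rfl | rfl := hz a
              · exact zero_pow (by positivity)
              · exact one_pow _]
    have h2 : 1 < 2 ^ t := Nat.one_lt_two_pow ht.ne'
    have hle : Fintype.card F ≤ 2 ^ t := by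
      rw [← FiniteField.X_pow_card_sub_X_natDegree_eq F h2, ← Finset.card_univ]
      refine (Finset.card_le_card (fun x _ => Multiset.mem_toFinset.2 ?_)).trans
        ((Multiset.toFinset_card_le _).trans (card_roots' _))
      rw [mem_roots (FiniteField.X_pow_card_sub_X_ne_zero F h2)]
      simp [hall x]
    rw [← Nat.card_eq_fintype_card, hcardF] at hle
    exact (Nat.pow_le_pow_iff_right one_lt_two).1 hle
  have hθo : θ ^ 2 ^ o = θ := by
    rw [← hcardF, Nat.card_eq_fintype_card]; exact FiniteField.pow_card θ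
  -- the inverse of the root is a root
  have hn0 : 0 < n := hn.pos
  have hT' : T * T ^ (n - 1) = 1 := by
    rw [← pow_succ', Nat.sub_add_cancel hn0, hnd, pow_orderOf_eq_one]
  have hadj : ∀ (R : (ZMod 2)[X]) (x y : M), b (aeval T R x) y = b x (aeval (T ^ (n - 1)) R y) := by
    intro R
    induction R using Polynomial.induction_on' with
    | add R S hR hS =>
      intro x y
      rw [map_add, map_add, LinearMap.add_apply, LinearMap.add_apply, map_add, LinearMap.add_apply,
        map_add, hR, hS]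
    | monomial k a =>
      have hpow : ∀ (j : ℕ) (x y : M), b ((T ^ j) x) y = b x (((T ^ (n - 1)) ^ j) y) := by
        intro j
        induction j with
        | zero => intro x y; simp
        | succ j ihj =>
          intro x y
          rw [pow_succ, Module.End.mul_apply, ihj, pow_succ' (T ^ (n - 1)), Module.End.mul_apply]
          conv_lhs => rw [show (((T ^ (n - 1)) ^ j) y) = T ((T ^ (n - 1)) (((T ^ (n - 1)) ^ j) y)) by
            rw [← Module.End.mul_apply T, hT']; rfl]
          exact hbT _ _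
      intro x y
      rw [aeval_monomial, aeval_monomial, ← Algebra.smul_def, ← Algebra.smul_def, LinearMap.smul_apply,
        LinearMap.smul_apply, map_smul, LinearMap.smul_apply, map_smul, hpow]
  have hroot : aeval (θ ^ (n - 1)) P = 0 := by
    by_contra hne
    have hu : IsUnit (φ (aeval (θ ^ (n - 1)) P)) := (isUnit_iff_ne_zero.2 hne).map φ
    rw [← Polynomial.aeval_algHom_apply, map_pow, hφθ] at hu
    refine hb (LinearMap.ext fun x => LinearMap.ext fun y => ?_)
    obtain ⟨y, rfl⟩ := ((Module.End.isUnit_iff _).1 hu).2 y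
    rw [← hadj, minpoly.aeval]
    simp
  obtain ⟨i, hio, hi⟩ : ∃ i, i < o ∧ θ ^ (n - 1) = θ ^ 2 ^ i := by
    have hmap : ∀ j : ℕ, aeval (θ ^ 2 ^ j) P = 0 := by
      intro j
      induction j with
      | zero => rw [pow_zero, pow_one, AdjoinRoot.aeval_eq, AdjoinRoot.mk_self]
      | succ j ihj =>
        rw [pow_succ, pow_mul, ← Polynomial.expand_aeval, ZMod.expand_card, map_pow, ihj,
          zero_pow two_ne_zero]
    have hinj : Function.Injective fun j : Fin o => θ ^ 2 ^ (j : ℕ) := by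
      have key : ∀ j j' : ℕ, j ≤ j' → j' < o → θ ^ 2 ^ j = θ ^ 2 ^ j' → j = j' := by
        intro j j' hle hlt he
        by_contra hne
        have h : (θ ^ 2 ^ (j' - j)) ^ 2 ^ j = θ ^ 2 ^ j := by
          rw [← pow_mul, ← pow_add, Nat.sub_add_cancel hle, he]
        have := hper (j' - j) (by omega) (iterateFrobenius_inj F 2 j
          (by simpa [iterateFrobenius_def] using h))
        omega
      rintro ⟨j, hj⟩ ⟨j', hj'⟩ he
      rcases le_total j j' with h | h
      · exact Fin.ext (key j j' h hj' he)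
      · exact Fin.ext (key j' j h hj he.symm).symm
    have hsub : (Finset.univ.image fun j : Fin o => θ ^ 2 ^ (j : ℕ)) = (P.aroots F).toFinset := by
      refine Finset.eq_of_subset_of_card_le (fun x hx => ?_) ?_
      · obtain ⟨j, -, rfl⟩ := Finset.mem_image.1 hx
        exact Multiset.mem_toFinset.2 (mem_aroots.2 ⟨hP0, hmap _⟩)
      · rw [Finset.card_image_of_injective _ hinj, Finset.card_univ, Fintype.card_fin]
        exact (Multiset.toFinset_card_le _).trans ((card_roots' _).trans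
          (natDegree_map_le (f := algebraMap (ZMod 2) F) (p := P)))
    have hmem : θ ^ (n - 1) ∈ (P.aroots F).toFinset :=
      Multiset.mem_toFinset.2 (mem_aroots.2 ⟨hP0, hroot⟩)
    rw [← hsub] at hmem
    obtain ⟨j, -, hj⟩ := Finset.mem_image.1 hmem
    exact ⟨j, j.2, hj.symm⟩
  have hθi : θ ^ (2 ^ i + 1) = 1 := by
    rw [pow_succ, ← hi, ← pow_succ, Nat.sub_add_cancel hn0, hθn]
  have hnd' : n ∣ 2 ^ i + 1 := by
    rw [hnd]
    exact orderOf_dvd_of_pow_eq_one (by rw [← hφθ, ← map_pow, hθi, map_one])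
  have hi0 : i ≠ 0 := by
    rintro rfl
    rcases (Nat.dvd_prime Nat.prime_two).1 (by simpa using hnd' : n ∣ 2) with h | h
    · exact hn1 h
    · obtain ⟨c, hc⟩ := hn; omega
  have h2i : θ ^ 2 ^ (i + i) = θ := by
    rw [pow_add, pow_mul, ← hi, ← pow_mul, mul_comm, pow_mul, ← hi, ← pow_mul]
    obtain ⟨c, hc⟩ : ∃ c, (n - 1) * (n - 1) = n * c + 1 := by
      rcases Nat.exists_eq_add_of_le (show 2 ≤ n by omega) with ⟨e, he⟩
      exact ⟨e, by rw [he, show 2 + e - 1 = e + 1 by omega]; ring⟩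
    rw [hc, pow_succ, pow_mul, hθn, one_pow, one_mul]
  have hoi : o = 2 * i := by
    have h1 := hper (i + i) (by omega) h2i
    by_contra hne
    have h3 : θ ^ 2 ^ (i + i - o) = θ := by
      have h4 : (θ ^ 2 ^ o) ^ 2 ^ (i + i - o) = θ := by
        rw [← pow_mul, ← pow_add, Nat.add_sub_cancel' h1, h2i]
      rwa [hθo] at h4
    have := hper (i + i - o) (by omega) h3
    omega
  -- the space over the field
  letI : Module F M := Module.compHom M φ.toRingHom
  have hsmul : ∀ (z : F) (v : M), z • v = φ z v := fun _ _ => rfl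
  haveI : Module.Finite F M := Module.Finite.of_finite
  set m := Module.finrank F M with hm
  have hdim : Module.finrank (ZMod 2) M = o * m := by
    have h1 := Module.natCard_eq_pow_finrank (K := ZMod 2) (V := M)
    have h2 := Module.natCard_eq_pow_finrank (K := F) (V := M)
    rw [Nat.card_zmod] at h1
    rw [hcardF, ← pow_mul, h1] at h2
    exact Nat.pow_right_injective le_rfl h2
  have hcomm : ∀ S : Module.End (ZMod 2) M, Commute S T → ∀ (z : F) (v : M), S (z • v) = z • S v := by
    intro S hS z v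
    have h : Commute S (φ z) := by
      induction z using AdjoinRoot.induction_on with
      | ih R =>
        rw [← AdjoinRoot.aeval_eq, ← Polynomial.aeval_algHom_apply, hφθ]
        induction R using Polynomial.induction_on' with
        | add R S hR hS => rw [map_add]; exact hR.add_right hS
        | monomial k a =>
          rw [aeval_monomial]
          exact (Algebra.commute_algebraMap_right a S).mul_right (hS.pow_right k)
    rw [hsmul, hsmul, ← Module.End.mul_apply, h.eq]
    rfl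
  let toF : {S : Module.End (ZMod 2) M // Commute S T} → (M →ₗ[F] M) := fun S =>
    { toFun := S.1, map_add' := map_add S.1, map_smul' := hcomm S.1 S.2 }
  refine ⟨i, by omega, hoi ▸ hdim ▸ Dvd.intro m rfl, hnd', ?_, fun hfull S S' hS hS' => ?_⟩
  · have hinj : Function.Injective toF := fun S S' h =>
      Subtype.ext (LinearMap.ext fun v => LinearMap.congr_fun h v)
    haveI : Finite (M →ₗ[F] M) := Finite.of_injective _ DFunLike.coe_injective
    refine (Nat.card_le_card_of_injective toF hinj).trans ?_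
    rw [Module.natCard_eq_pow_finrank (K := F) (V := M →ₗ[F] M), hcardF, Module.finrank_linearMap,
      ← pow_mul, hdim, hoi, Nat.mul_div_cancel_left m (by omega), sq]
  · have hm1 : m = 1 := by
      rw [hdim, hoi] at hfull
      exact (Nat.mul_eq_left (by omega)).1 hfull
    obtain ⟨v, hv⟩ := exists_ne (0 : M)
    have hspan := (finrank_eq_one_iff_of_nonzero' v hv).1 hm1
    refine LinearMap.ext fun w => ?_
    obtain ⟨z, rfl⟩ := hspan w
    obtain ⟨a, ha⟩ := hspan (S v)
    obtain ⟨c, hc⟩ := hspan (S' v)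
    rw [Module.End.mul_apply, Module.End.mul_apply, hcomm S' hS' z v, ← hc, hcomm S hS z v, ← ha,
      hcomm S hS z (c • v), hcomm S hS c v, ← ha, hcomm S' hS' z (a • v), hcomm S' hS' a v, ← hc,
      smul_smul c a, smul_smul a c, mul_comm c a]


section Group

open Subgroup
open CfsgLib.Bender.SquareMap (eq_one_of_stabilises mul_pow_two_of_comm restrict sq_mem_frattini)

universe u v

variable {r k : ℕ}

/-- A nontrivial subgroup of a two-group invariant under the fixed-point-free automorphism has at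
least `2 ^ k` elements, and its order is a power of `2 ^ k`. -/
theorem card_invariant {P : Type u} [Group P] [Finite P] (hP : IsPGroup 2 P) [Fact r.Prime]
    (hk : 0 < k) (hord : ∀ j, 0 < j → j < k → ¬ r ∣ 2 ^ j - 1) (hdvd : r ∣ 2 ^ k - 1) (L : MulAut P)
    (hL : L ^ r = 1) (hfix : ∀ s, L s = s → s = 1) (U : Subgroup P) (hU : ∀ s ∈ U, L s ∈ U) :
    ∃ j, Nat.card U = 2 ^ j ∧ k ∣ j := by
  haveI : Fact (Nat.Prime 2) := ⟨Nat.prime_two⟩
  obtain ⟨j, hj⟩ := IsPGroup.iff_card.1 (hP.to_subgroup U)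
  refine ⟨j, hj, ?_⟩
  let A : Subgroup (MulAut P) :=
    { carrier := {σ | ∀ s, s ∈ U ↔ σ s ∈ U}
      one_mem' := fun s => Iff.rfl
      mul_mem' := fun {σ τ} hσ hτ s => (hτ s).trans (hσ (τ s))
      inv_mem' := fun {σ} hσ s => by rw [hσ (σ⁻¹ s), MulAut.apply_inv_self] }
  have hLA : L ∈ A := by
    have hpow : ∀ (i : ℕ), ∀ s ∈ U, (L ^ i) s ∈ U := by
      intro i
      induction i with
      | zero => intro s hs; simpa using hs
      | succ i ih => intro s hs; rw [pow_succ', MulAut.mul_apply]; exact hU _ (ih s hs)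
    refine fun s => ⟨hU s, fun hs => ?_⟩
    have h := hpow (r - 1) _ hs
    rwa [← MulAut.mul_apply, ← pow_succ, Nat.sub_add_cancel (Fact.out : r.Prime).one_le, hL,
      MulAut.one_apply] at h
  letI : MulAction (zpowers L) U :=
    { smul := fun σ s => ⟨(σ : MulAut P) s, (zpowers_le.2 hLA σ.2 s.1).1 s.2⟩
      one_smul := fun s => Subtype.ext rfl
      mul_smul := fun σ τ s => Subtype.ext rfl }
  have hz : IsPGroup r (zpowers L) := by
    intro σ
    obtain ⟨i, hi⟩ := σ.2
    refine ⟨1, Subtype.ext ?_⟩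
    simp only [pow_one, SubgroupClass.coe_pow, OneMemClass.coe_one]
    rw [← hi, ← zpow_natCast, ← zpow_mul, mul_comm, zpow_mul, zpow_natCast, hL, one_zpow]
  have hfp : Nat.card (MulAction.fixedPoints (zpowers L) U) = 1 := by
    rw [Nat.card_eq_one_iff_exists]
    refine ⟨⟨1, fun σ => Subtype.ext (map_one (σ : MulAut P))⟩, fun y => Subtype.ext (Subtype.ext ?_)⟩
    exact hfix _ (congrArg Subtype.val (y.2 ⟨L, mem_zpowers L⟩))
  have h := hz.card_modEq_card_fixedPoints U
  rw [hfp, hj] at h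
  have hj' : r ∣ 2 ^ j - 1 := (Nat.modEq_iff_dvd' Nat.one_le_two_pow).1 h.symm
  have hmod : ((2 : ZMod r) ^ j = 1) ∧ ((2 : ZMod r) ^ k = 1) := by
    constructor
    · have := (ZMod.natCast_eq_natCast_iff _ _ _).2 h
      simpa using this
    · have := (ZMod.natCast_eq_natCast_iff _ _ _).2 ((Nat.modEq_iff_dvd' Nat.one_le_two_pow).2 hdvd)
      simpa using this.symm
  have ho : orderOf (2 : ZMod r) = k := by
    refine (orderOf_eq_iff hk).2 ⟨hmod.2, fun i hi hi0 he => hord i hi0 hi ?_⟩
    refine (Nat.modEq_iff_dvd' Nat.one_le_two_pow).1 ((ZMod.natCast_eq_natCast_iff _ _ _).1 ?_)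
    simpa using he.symm
  exact ho ▸ orderOf_dvd_of_pow_eq_one hmod.1

/-- A coset fixed by the fixed-point-free automorphism is trivial. -/
theorem mem_of_fixed_mod {P : Type u} [Group P] [Finite P] (hP : IsPGroup 2 P) [Fact r.Prime]
    (hr : Odd r) (L : MulAut P) (hL : L ^ r = 1) (hfix : ∀ s, L s = s → s = 1) (X : Subgroup P)
    (hX : ∀ s ∈ X, L s ∈ X) {s : P} (hs : s⁻¹ * L s ∈ X) : s ∈ X := by
  haveI : Fact (Nat.Prime 2) := ⟨Nat.prime_two⟩
  have hpow : ∀ i : ℕ, ∀ y : P, s⁻¹ * y ∈ X → s⁻¹ * (L ^ i) y ∈ X := by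
    intro i
    induction i with
    | zero => intro y hy; simpa using hy
    | succ i ih =>
      intro y hy
      have h := mul_mem hs (hX _ (ih y hy))
      rw [map_mul, map_inv, mul_assoc, mul_inv_cancel_left] at h
      rwa [pow_succ', MulAut.mul_apply]
  letI : MulAction (zpowers L) {y : P // s⁻¹ * y ∈ X} :=
    { smul := fun σ y => ⟨(σ : MulAut P) y.1, by
        obtain ⟨i, hi⟩ := mem_powers_iff_mem_zpowers.2 σ.2
        rw [show (σ : MulAut P) = L ^ i from hi.symm]
        exact hpow i y.1 y.2⟩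
      one_smul := fun y => Subtype.ext rfl
      mul_smul := fun σ τ y => Subtype.ext rfl }
  have hz : IsPGroup r (zpowers L) := by
    intro σ
    obtain ⟨i, hi⟩ := σ.2
    refine ⟨1, Subtype.ext ?_⟩
    simp only [pow_one, SubgroupClass.coe_pow, OneMemClass.coe_one]
    rw [← hi, ← zpow_natCast, ← zpow_mul, mul_comm, zpow_mul, zpow_natCast, hL, one_zpow]
  have hco : ¬ r ∣ Nat.card {y : P // s⁻¹ * y ∈ X} := by
    rw [Nat.card_congr (Equiv.subtypeEquiv (Equiv.mulLeft s⁻¹) fun y => Iff.rfl :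
      {y : P // s⁻¹ * y ∈ X} ≃ X)]
    obtain ⟨i, hi⟩ := IsPGroup.iff_card.1 (hP.to_subgroup X)
    rw [hi]
    intro h
    have h2 := Nat.le_of_dvd two_pos ((Fact.out : r.Prime).dvd_of_dvd_pow h)
    have := (Fact.out : r.Prime).two_le
    obtain ⟨c, hc⟩ := hr
    omega
  obtain ⟨⟨y, hy⟩, hyfix⟩ := hz.nonempty_fixed_point_of_prime_not_dvd_card _ hco
  rw [hfix y (congrArg Subtype.val (hyfix ⟨L, mem_zpowers L⟩)), mul_one, inv_mem_iff] at hy
  exact hy

/-- The structure of a two-group every proper invariant subgroup of which is fixed by a moving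
automorphism. -/
theorem section_props {Γ : Type v} [Group Γ] {P : Type u} [Group P] [Finite P] (hP : IsPGroup 2 P)
    (ρ : Γ →* MulAut P) (τ : MulAut P) (hτc : ∀ g, ρ g * τ = τ * ρ g) (hτ1 : τ ≠ 1)
    (hτo : Odd (orderOf τ))
    (hprop : ∀ U : Subgroup P, (∀ g, ∀ s ∈ U, ρ g s ∈ U) → U ≠ ⊤ → ∀ s ∈ U, τ s = s)
    (X : Subgroup P) (hX : ∀ s, s ∈ X ↔ s ^ 2 = 1) (hXfix : ∀ s ∈ X, τ s = s) :
    X ≤ center P ∧ (∀ s, s ^ 2 ∈ X) ∧ closure {z | ∃ s : P, z = s⁻¹ * τ s} = ⊤ := by
  obtain ⟨K, hKd⟩ : ∃ K, K = closure {z : P | ∃ s : P, z = s⁻¹ * τ s} := ⟨_, rfl⟩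
  have hmove : ∀ s, s⁻¹ * τ s ∈ K := fun s => hKd ▸ subset_closure ⟨s, rfl⟩
  have hKg : ∀ g, ∀ s ∈ K, ρ g s ∈ K := by
    intro g s hs
    have : K ≤ K.comap (ρ g).toMonoidHom := by
      conv_lhs => rw [hKd]
      rw [closure_le]
      rintro z ⟨t, rfl⟩
      show ρ g (t⁻¹ * τ t) ∈ K
      rw [map_mul, map_inv, show ρ g (τ t) = τ (ρ g t) from DFunLike.congr_fun (hτc g) t]
      exact hmove _
    exact this hs
  have hKtop : K = ⊤ := by
    by_contra hK
    exact hτ1 (eq_one_of_stabilises hP τ hτo (pow_orderOf_eq_one τ) K (hprop K hKg hK) hmove)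
  have hcent : ∀ U : Subgroup P, U.Normal → U ≠ ⊤ → (∀ g, ∀ s ∈ U, ρ g s ∈ U) → U ≤ center P := by
    intro U hUn hU hUg x hx
    have hK : K ≤ centralizer ({x} : Set P) := by
      rw [hKd, closure_le]
      rintro z ⟨t, rfl⟩
      rw [SetLike.mem_coe, mem_centralizer_iff]
      rintro w rfl
      have e1 := hprop U hUg hU _ (hUn.conj_mem w hx t)
      have hdw : τ w = w := hprop U hUg hU w hx
      rw [map_mul, map_mul, map_inv, hdw] at e1
      calc w * (t⁻¹ * τ t) = t⁻¹ * (t * w * t⁻¹) * τ t := by group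
        _ = t⁻¹ * (τ t * w * (τ t)⁻¹) * τ t := by rw [e1]
        _ = t⁻¹ * τ t * w := by group
    rw [Subgroup.mem_center_iff]
    intro g
    exact ((mem_centralizer_iff.1 (hK (hKtop ▸ mem_top g))) x rfl).symm
  have hXσ : ∀ σ : MulAut P, ∀ s ∈ X, σ s ∈ X := fun σ s hs => by
    rw [hX, ← map_pow, (hX s).1 hs, map_one]
  have hXn : X.Normal := ⟨fun s hs g => hXσ (MulAut.conj g) s hs⟩
  have hXtop : X ≠ ⊤ := fun h => hτ1 (MulEquiv.ext fun s => hXfix s (h ▸ mem_top s))
  have hXc : X ≤ center P := hcent X hXn hXtop fun g => hXσ (ρ g)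
  refine ⟨hXc, ?_, hKd ▸ hKtop⟩
  obtain ⟨Q, hQd⟩ : ∃ Q, Q = closure {z : P | ∃ s : P, z = s ^ 2} := ⟨_, rfl⟩
  have hQσ : ∀ σ : MulAut P, ∀ s ∈ Q, σ s ∈ Q := by
    intro σ s hs
    have : Q ≤ Q.comap σ.toMonoidHom := by
      conv_lhs => rw [hQd]
      rw [closure_le]
      rintro t ⟨u, rfl⟩
      exact hQd ▸ subset_closure ⟨σ u, map_pow σ u 2⟩
    exact this hs
  haveI hQn : Q.Normal := ⟨fun s hs g => hQσ (MulAut.conj g) s hs⟩
  have hQtop : Q ≠ ⊤ := by
    intro h
    haveI : Nontrivial P := by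
      by_contra hn
      haveI := not_nontrivial_iff_subsingleton.1 hn
      exact hτ1 (MulEquiv.ext fun s => Subsingleton.elim _ _)
    have hle : Q ≤ frattini P := by
      rw [hQd, closure_le]
      rintro t ⟨u, rfl⟩
      exact sq_mem_frattini hP u
    have hf : (frattini P) = ⊤ := top_le_iff.1 (h ▸ hle)
    exact bot_ne_top (frattini_nongenerating (K := (⊥ : Subgroup P)) (by rw [hf, sup_top_eq]))
  have hQc : Q ≤ center P := hcent Q hQn hQtop fun g => hQσ (ρ g)
  have hsqc : ∀ s : P, s ^ 2 ∈ center P := fun s => hQc (hQd ▸ subset_closure ⟨s, rfl⟩)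
  have hsqfix : ∀ s : P, τ (s ^ 2) = s ^ 2 := fun s =>
    hprop Q (fun g => hQσ (ρ g)) hQtop _ (hQd ▸ subset_closure ⟨s, rfl⟩)
  have hcomc : ∀ x y : P, ⁅x, y⁆ ∈ center P := fun x y => by
    refine hQc ?_
    rw [← QuotientGroup.eq_one_iff, ← QuotientGroup.mk'_apply, map_commutatorElement,
      commutatorElement_eq_one_iff_mul_comm]
    have h2 : ∀ z : P ⧸ Q, z * z = 1 := by
      intro z
      obtain ⟨u, rfl⟩ := QuotientGroup.mk'_surjective Q z
      rw [← map_mul, ← pow_two]
      exact (QuotientGroup.eq_one_iff _).2 (hQd ▸ subset_closure ⟨u, rfl⟩)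
    have hx := inv_eq_of_mul_eq_one_right (h2 (QuotientGroup.mk' Q x))
    have hy := inv_eq_of_mul_eq_one_right (h2 (QuotientGroup.mk' Q y))
    conv_lhs => rw [← inv_eq_of_mul_eq_one_right (h2 (QuotientGroup.mk' Q x * QuotientGroup.mk' Q y)),
      mul_inv_rev, hx, hy]
  have hmulsq : ∀ x y : P, (x * y) ^ 2 = x ^ 2 * y ^ 2 * ⁅y, x⁆ ∧ ⁅y, x⁆ ^ 2 = 1 := by
    intro x y
    have hc1 : ∀ g : P, g * ⁅y, x⁆ = ⁅y, x⁆ * g := Subgroup.mem_center_iff.1 (hcomc y x)
    constructor
    · calc (x * y) ^ 2 = x * (⁅y, x⁆ * (x * y)) * y := by rw [commutatorElement_def, pow_two]; group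
        _ = x * (x * y * ⁅y, x⁆) * y := by rw [hc1]
        _ = x * x * y * (⁅y, x⁆ * y) := by group
        _ = x * x * y * (y * ⁅y, x⁆) := by rw [hc1]
        _ = _ := by rw [pow_two, pow_two]; group
    · have hcc : y ^ 2 * x = x * y ^ 2 := (Subgroup.mem_center_iff.1 (hsqc y) x).symm
      have h1 : ⁅y, x⁆ * ⁅y, x⁆ = ⁅y ^ 2, x⁆ := by
        rw [show ⁅y ^ 2, x⁆ = y * ⁅y, x⁆ * y⁻¹ * ⁅y, x⁆ by rw [pow_two]; simp [commutatorElement_def, mul_assoc],
          hc1 y, mul_inv_cancel_right]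
      rw [pow_two, h1, commutatorElement_eq_one_iff_mul_comm.2 hcc]
  let Ω : Subgroup P :=
    { carrier := {s | (s ^ 2) ^ 2 = 1}
      one_mem' := by simp
      mul_mem' := by
        intro x y hx hy
        show ((x * y) ^ 2) ^ 2 = 1
        rw [(hmulsq x y).1, mul_pow_two_of_comm (Subgroup.mem_center_iff.1 (hcomc y x) _), (hmulsq x y).2, mul_one,
          mul_pow_two_of_comm (Subgroup.mem_center_iff.1 (hsqc y) _), hx, hy, mul_one]
      inv_mem' := by
        intro x hx
        show ((x⁻¹) ^ 2) ^ 2 = 1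
        rw [inv_pow, inv_pow, hx, inv_one] }
  have hle : K ≤ Ω := by
    rw [hKd, closure_le]
    rintro z ⟨t, rfl⟩
    obtain ⟨w, hw⟩ : ∃ w, w = t⁻¹ * τ t := ⟨_, rfl⟩
    rw [← hw]
    have h1 := hsqfix t
    rw [map_pow, show τ t = t * w by rw [hw, mul_inv_cancel_left], (hmulsq t w).1, mul_assoc] at h1
    show (w ^ 2) ^ 2 = 1
    rw [eq_inv_of_mul_eq_one_left (mul_eq_left.1 h1), inv_pow, (hmulsq t w).2, inv_one]
  intro s
  rw [hX]
  exact hle (hKtop ▸ mem_top s)

/-- The bound on a group commuting with `σ`, when every proper invariant subgroup is fixed by a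
power of `σ` that moves something. -/
theorem minimal_bound {Γ : Type v} [Group Γ] [Finite Γ] {P : Type u} [Group P] [Finite P]
    (hP : IsPGroup 2 P) (ρ : Γ →* MulAut P) [Fact r.Prime] (hr : Odd r) (hk : Odd k)
    (hdvd : r ∣ 2 ^ k - 1) (hord : ∀ j, 0 < j → j < k → ¬ r ∣ 2 ^ j - 1) (l s : Γ)
    (hl : ρ l ^ r = 1) (hfix : ∀ x, ρ l x = x → x = 1) (hsc : ∀ g, ρ g * ρ s = ρ s * ρ g)
    {p a : ℕ} [Fact p.Prime] (hp : Odd p) (hso : ρ s ^ p ^ (a + 1) = 1) (hτ : ρ s ^ p ^ a ≠ 1)
    (hprop : ∀ U : Subgroup P, (∀ g, ∀ x ∈ U, ρ g x ∈ U) → U ≠ ⊤ → ∀ x ∈ U, (ρ s ^ p ^ a) x = x)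
    (X : Subgroup P) (hX : ∀ x, x ∈ X ↔ x ^ 2 = 1) (hXcard : Nat.card X ≤ 2 ^ k)
    (hsX : ∀ x ∈ X, ρ s x = x) (hinv : ∀ g, ∀ x ∈ X, ρ g x ∈ X) :
    ∃ d, d ∣ k ∧ p ^ (a + 1) ∣ 2 ^ d + 1 ∧
      Nat.card (restrict ρ X hinv).range ≤ 2 ^ (2 * k * (k / d)) ∧
      (d = k → ∀ g g' : Γ, ∀ x ∈ X, ρ g (ρ g' x) = ρ g' (ρ g x)) := by
  classical
  set τ := ρ s ^ p ^ a with hτd
  have hpowX : ∀ i : ℕ, ∀ x ∈ X, (ρ s ^ i) x = x := by
    intro i
    induction i with
    | zero => intro x _; simp
    | succ i ih => intro x hx; rw [pow_succ', MulAut.mul_apply, ih x hx, hsX x hx]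
  have hτc : ∀ g, ρ g * τ = τ * ρ g := fun g => (Commute.pow_right (hsc g) _ : _)
  obtain ⟨hXc, hsq, hmoved⟩ := section_props hP ρ τ hτc hτ
    ((hp.pow (n := a + 1)).of_dvd_nat
      ((orderOf_pow_dvd (p ^ a)).trans (orderOf_dvd_of_pow_eq_one hso))) hprop X hX
    fun x hx => hpowX _ x hx
  haveI hXn : X.Normal := ⟨fun x hx g => by
    rw [hX, conj_pow, (hX x).1 hx, mul_one, mul_inv_cancel]⟩
  -- the modules
  have hq2 : ∀ z : P ⧸ X, z * z = 1 := by
    intro z
    obtain ⟨y, rfl⟩ := QuotientGroup.mk'_surjective X z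
    rw [← map_mul, ← pow_two]
    exact (QuotientGroup.eq_one_iff _).2 (hsq y)
  letI : CommGroup (P ⧸ X) :=
    { (inferInstance : Group (P ⧸ X)) with
      mul_comm := fun x y => by
        have h := hq2 (x * y)
        have hx := inv_eq_of_mul_eq_one_right (hq2 x)
        have hy := inv_eq_of_mul_eq_one_right (hq2 y)
        calc x * y = (x * y)⁻¹ := (inv_eq_of_mul_eq_one_right h).symm
          _ = y * x := by rw [mul_inv_rev, hx, hy] }
  letI : Module (ZMod 2) (Additive (P ⧸ X)) :=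
    AddCommGroup.zmodModule (n := 2) (G := Additive (P ⧸ X)) fun m => by rw [two_nsmul]; exact hq2 m.toMul
  letI : CommGroup X :=
    { (inferInstance : Group X) with
      mul_comm := fun x y => Subtype.ext (Subgroup.mem_center_iff.1 (hXc y.2) x) }
  letI : Module (ZMod 2) (Additive X) :=
    AddCommGroup.zmodModule (n := 2) (G := Additive X) fun m => by
      rw [two_nsmul]
      exact Subtype.ext ((pow_two (m.toMul : X).1).symm.trans ((hX _).1 m.toMul.2))
  have hcom : ∀ x y : P, ⁅x, y⁆ ∈ X := fun x y => by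
    rw [← QuotientGroup.eq_one_iff, ← QuotientGroup.mk'_apply, map_commutatorElement,
      commutatorElement_eq_one_iff_mul_comm]
    exact mul_comm _ _
  have hXcom : ∀ w ∈ X, ∀ y : P, y * w = w * y := fun w hw y => Subgroup.mem_center_iff.1 (hXc hw) y
  let π : P → Additive (P ⧸ X) := fun y => Additive.ofMul (QuotientGroup.mk' X y)
  have hsur : ∀ m, ∃ y, m = π y := fun m => by
    obtain ⟨y, hy⟩ := QuotientGroup.mk'_surjective X m.toMul
    exact ⟨y, congrArg Additive.ofMul hy.symm⟩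
  have hπmul : ∀ x y, π (x * y) = π x + π y := fun x y => by
    show Additive.ofMul (QuotientGroup.mk' X (x * y)) = _
    rw [map_mul]; rfl
  have hπ0 : ∀ y, π y = 0 → y ∈ X := fun y hy => (QuotientGroup.eq_one_iff y).1 hy
  let sq : P → Additive X := fun y => Additive.ofMul ⟨y ^ 2, hsq y⟩
  let cm : P → P → Additive X := fun x y => Additive.ofMul ⟨⁅y, x⁆, hcom y x⟩
  have hsq_mul : ∀ x y : P, sq (x * y) = sq x + sq y + cm x y := by
    intro x y
    refine congrArg Additive.ofMul (Subtype.ext ?_)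
    show (x * y) ^ 2 = x ^ 2 * y ^ 2 * ⁅y, x⁆
    calc (x * y) ^ 2 = x * (⁅y, x⁆ * (x * y)) * y := by rw [commutatorElement_def, pow_two]; group
      _ = x * (x * y * ⁅y, x⁆) * y := by rw [← hXcom _ (hcom y x)]
      _ = x * x * y * (⁅y, x⁆ * y) := by group
      _ = x * x * y * (y * ⁅y, x⁆) := by rw [← hXcom _ (hcom y x)]
      _ = _ := by rw [pow_two, pow_two]; group
  have hcm0 : ∀ (y w : P), w ∈ X → cm y w = 0 ∧ cm w y = 0 := fun y w hw =>
    ⟨congrArg Additive.ofMul (Subtype.ext (commutatorElement_eq_one_iff_mul_comm.2 (hXcom w hw y).symm)),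
      congrArg Additive.ofMul (Subtype.ext (commutatorElement_eq_one_iff_mul_comm.2 (hXcom w hw y)))⟩
  have hsqX : ∀ y w : P, w ∈ X → sq (y * w) = sq y := by
    intro y w hw
    rw [hsq_mul, (hcm0 y w hw).1, add_zero, show sq w = 0 from
      congrArg Additive.ofMul (Subtype.ext ((hX w).1 hw)), add_zero]
  let q : Additive (P ⧸ X) → Additive X := fun m => sq m.toMul.out
  have hq : ∀ y, q (π y) = sq y := by
    intro y
    obtain ⟨w, hw⟩ := QuotientGroup.mk_out_eq_mul X y
    show sq (QuotientGroup.mk y : P ⧸ X).out = sq y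
    rw [hw]; exact hsqX y w w.2
  let Bf : Additive (P ⧸ X) → Additive (P ⧸ X) → Additive X := fun m m' => q (m + m') - q m - q m'
  have hBf : ∀ x y, Bf (π x) (π y) = cm x y := fun x y => by
    show q (π x + π y) - q (π x) - q (π y) = _
    rw [← hπmul, hq, hq, hq, hsq_mul]
    abel
  have hbil : ∀ x x' y : P, cm (x * x') y = cm x y + cm x' y ∧ cm y (x * x') = cm y x + cm y x' := by
    intro x x' y
    refine ⟨congrArg Additive.ofMul (Subtype.ext ?_), congrArg Additive.ofMul (Subtype.ext ?_)⟩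
    · show ⁅y, x * x'⁆ = ⁅y, x⁆ * ⁅y, x'⁆
      rw [show ⁅y, x * x'⁆ = ⁅y, x⁆ * (x * ⁅y, x'⁆ * x⁻¹) by simp [commutatorElement_def, mul_assoc],
        hXcom _ (hcom y x') x, mul_inv_cancel_right]
    · show ⁅x * x', y⁆ = ⁅x, y⁆ * ⁅x', y⁆
      rw [show ⁅x * x', y⁆ = (x * ⁅x', y⁆ * x⁻¹) * ⁅x, y⁆ by simp [commutatorElement_def, mul_assoc],
        hXcom _ (hcom x' y) x, mul_inv_cancel_right, hXcom _ (hcom x' y)]
  have hBl : ∀ m m' n, Bf (m + m') n = Bf m n + Bf m' n := by
    intro m m' n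
    obtain ⟨x, rfl⟩ := hsur m
    obtain ⟨x', rfl⟩ := hsur m'
    obtain ⟨y, rfl⟩ := hsur n
    rw [← hπmul, hBf, hBf, hBf]
    exact (hbil x x' y).1
  have hBr : ∀ m n n', Bf m (n + n') = Bf m n + Bf m n' := by
    intro m m' n
    obtain ⟨x, rfl⟩ := hsur m
    obtain ⟨x', rfl⟩ := hsur m'
    obtain ⟨y, rfl⟩ := hsur n
    rw [← hπmul, hBf, hBf, hBf]
    exact (hbil x' y x).2
  let B : Additive (P ⧸ X) →ₗ[ZMod 2] Additive (P ⧸ X) →ₗ[ZMod 2] Additive X :=
    ((AddMonoidHom.mk' (fun m => ((AddMonoidHom.mk' (Bf m) (hBr m)).toZModLinearMap 2))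
      fun m m' => LinearMap.ext fun n => hBl m m' n)).toZModLinearMap 2
  have hqadd : ∀ m m', q (m + m') = q m + q m' + B m m' := fun m m' => by
    show _ = _ + _ + (q (m + m') - q m - q m')
    abel
  have h0 : q 0 = 0 := by
    rw [show (0 : Additive (P ⧸ X)) = π 1 from (congrArg Additive.ofMul (map_one _)).symm, hq]
    exact congrArg Additive.ofMul (Subtype.ext (one_pow 2))
  have hani : ∀ m, q m = 0 → m = 0 := by
    intro m hm
    obtain ⟨y, rfl⟩ := hsur m
    rw [hq] at hm
    have h : y ^ 2 = 1 := congrArg Subtype.val (congrArg Additive.toMul hm)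
    exact congrArg Additive.ofMul ((QuotientGroup.eq_one_iff y).2 ((hX y).2 h))
  have hdim := CfsgLib.QuadZero.finrank_le q B hqadd h0 hani
  have hXdim : Module.finrank (ZMod 2) (Additive X) ≤ k := by
    have h2 := Module.natCard_eq_pow_finrank (K := ZMod 2) (V := Additive X)
    rw [Nat.card_zmod] at h2
    have h3 : Nat.card (Additive X) ≤ 2 ^ k := hXcard
    rw [h2] at h3
    exact (Nat.pow_le_pow_iff_right one_lt_two).1 h3
  -- the operators
  let E : Γ →* Module.End (ZMod 2) (Additive (P ⧸ X)) :=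
    { toFun := fun g => AddMonoidHom.toZModLinearMap 2
        (MonoidHom.toAdditive (QuotientGroup.map X X (ρ g).toMonoidHom fun w hw => hinv g w hw))
      map_one' := LinearMap.ext fun m => by
        obtain ⟨y, rfl⟩ := hsur m
        show π (ρ 1 y) = π y
        rw [map_one]; rfl
      map_mul' := fun g g' => LinearMap.ext fun m => by
        obtain ⟨y, rfl⟩ := hsur m
        show π (ρ (g * g') y) = π (ρ g (ρ g' y))
        rw [map_mul]; rfl }
  have hE : ∀ g y, E g (π y) = π (ρ g y) := fun g y => rfl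
  set T := E s with hTd
  have hTpow : ∀ i y, (T ^ i) (π y) = π ((ρ s ^ i) y) := fun i y => by
    rw [hTd, ← map_pow, hE, map_pow]
  have hlfix : ∀ m, E l m = m → m = 0 := by
    intro m hm
    obtain ⟨y, rfl⟩ := hsur m
    rw [hE] at hm
    have h : y⁻¹ * ρ l y ∈ X := QuotientGroup.eq.1 (Additive.ofMul.injective hm).symm
    exact congrArg Additive.ofMul ((QuotientGroup.eq_one_iff y).2
      (mem_of_fixed_mod hP hr (ρ l) hl hfix X (hinv l) h))
  -- no fixed points of the moving power
  let D : Additive (P ⧸ X) →ₗ[ZMod 2] Additive (P ⧸ X) := T ^ p ^ a - 1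
  have hDsur : Function.Surjective D := by
    intro m
    obtain ⟨y, rfl⟩ := hsur m
    let R : Submodule (ZMod 2) (Additive (P ⧸ X)) := LinearMap.range D
    suffices hle : (⊤ : Subgroup P) ≤
        { carrier := {y | π y ∈ R}
          one_mem' := by
            show π 1 ∈ R
            rw [show π (1 : P) = 0 from congrArg Additive.ofMul (map_one _)]
            exact Submodule.zero_mem _
          mul_mem' := by
            intro x y hx hy
            show π (x * y) ∈ R
            rw [hπmul]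
            exact Submodule.add_mem _ hx hy
          inv_mem' := by
            intro x hx
            show π x⁻¹ ∈ R
            rw [show π x⁻¹ = -π x from congrArg Additive.ofMul (map_inv _ x)]
            exact Submodule.neg_mem _ hx } by
      exact hle (mem_top y)
    rw [← hmoved, closure_le]
    rintro z ⟨x, rfl⟩
    refine ⟨π x, ?_⟩
    show (T ^ p ^ a) (π x) - π x = π (x⁻¹ * τ x)
    rw [hTpow, hπmul, show π x⁻¹ = -π x from congrArg Additive.ofMul (map_inv _ x), ← hτd, sub_eq_neg_add]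
  have hDinj : Function.Injective D := Finite.injective_iff_surjective.2 hDsur
  have hTτ : T ^ p ^ a ≠ 1 := by
    intro h
    refine hτ (eq_one_of_stabilises hP τ (hp.pow (n := a + 1)) ?_ X (hpowX _) fun x => ?_)
    · rw [hτd, ← pow_mul, mul_comm, pow_mul, hso, one_pow]
    · have h1 := hTpow (p ^ a) x
      rw [h, Module.End.one_apply] at h1
      exact QuotientGroup.eq.1 (Additive.ofMul.injective h1)
  have hT1 : T ^ p ^ (a + 1) = 1 := LinearMap.ext fun m => by
    obtain ⟨y, rfl⟩ := hsur m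
    rw [hTpow, hso]; rfl
  have hTo : orderOf T = p ^ (a + 1) := orderOf_eq_prime_pow hTτ hT1
  haveI : Nontrivial (Additive (P ⧸ X)) := by
    by_contra h
    haveI := not_nontrivial_iff_subsingleton.1 h
    exact hTτ (LinearMap.ext fun m => Subsingleton.elim _ _)
  have hirr : ∀ U : Submodule (ZMod 2) (Additive (P ⧸ X)), (∀ g, ∀ m ∈ U, E g m ∈ U) → U = ⊥ ∨ U = ⊤ := by
    intro U hU
    let U' : Subgroup P :=
      { carrier := {y | π y ∈ U}
        one_mem' := by
          show π 1 ∈ U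
          rw [show π (1 : P) = 0 from congrArg Additive.ofMul (map_one _)]
          exact Submodule.zero_mem _
        mul_mem' := by
          intro x y hx hy
          show π (x * y) ∈ U
          rw [hπmul]
          exact Submodule.add_mem _ hx hy
        inv_mem' := by
          intro x hx
          show π x⁻¹ ∈ U
          rw [show π x⁻¹ = -π x from congrArg Additive.ofMul (map_inv _ x)]
          exact Submodule.neg_mem _ hx }
    by_cases htop : U' = ⊤
    · refine Or.inr (eq_top_iff.2 fun m _ => ?_)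
      obtain ⟨y, rfl⟩ := hsur m
      exact (htop.symm.le (mem_top y) : y ∈ U')
    · refine Or.inl ((Submodule.eq_bot_iff _).2 fun m hm => ?_)
      obtain ⟨y, rfl⟩ := hsur m
      refine hDinj ?_
      rw [map_zero]
      show (T ^ p ^ a) (π y) - π y = 0
      rw [hTpow, ← hτd, hprop U' (fun g x hx => by
        show π (ρ g x) ∈ U
        rw [← hE]; exact hU g _ hx) htop y hm, sub_self]
  -- the invariant form
  have hqT : ∀ m, q (T m) = q m := by
    intro m
    obtain ⟨y, rfl⟩ := hsur m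
    rw [hTd, hE, hq, hq]
    refine congrArg Additive.ofMul (Subtype.ext ?_)
    show (ρ s y) ^ 2 = y ^ 2
    rw [← map_pow, hsX _ (hsq y)]
  have hBne : ∃ m m', B m m' ≠ 0 := by
    by_contra h
    push Not at h
    refine hTτ ?_
    have hT1 : T = 1 := LinearMap.ext fun m => by
      refine sub_eq_zero.1 (hani _ ?_)
      have h2 := hqadd (T m - m) m
      rw [sub_add_cancel, hqT, h, add_zero] at h2
      exact add_right_cancel (h2.symm.trans (zero_add _).symm)
    rw [hT1, one_pow]
  obtain ⟨m₀, m₁, hne⟩ := hBne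
  obtain ⟨f, hf⟩ : ∃ f : Module.Dual (ZMod 2) (Additive X), f (B m₀ m₁) ≠ 0 := by
    by_contra hc
    push Not at hc
    exact hne ((Module.forall_dual_apply_eq_zero_iff (ZMod 2) _).1 hc)
  obtain ⟨d, hd0, hd2, hdn, hcard, habel⟩ := exists_half (fun g => E g) T
    (fun g => by
      show E g * T = T * E g
      rw [hTd, ← map_mul, ← map_mul]
      exact LinearMap.ext fun m => by
        obtain ⟨y, rfl⟩ := hsur m
        rw [hE, hE, map_mul, map_mul, hsc g])
    hirr (hTo ▸ hp.pow) (fun h => hTτ (by rw [h, one_pow])) (LinearMap.compr₂ B f)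
    (fun h => hf (by
      have := LinearMap.congr_fun (LinearMap.congr_fun h m₀) m₁
      simpa using this))
    (fun x y => by
      rw [LinearMap.compr₂_apply, LinearMap.compr₂_apply]
      congr 1
      show q (T x + T y) - q (T x) - q (T y) = q (x + y) - q x - q y
      rw [← map_add, hqT, hqT, hqT])
  -- the dimension
  haveI : Fact (Nat.Prime 2) := ⟨Nat.prime_two⟩
  set dimM := Module.finrank (ZMod 2) (Additive (P ⧸ X)) with hdimM
  have hcardM : Nat.card (Additive (P ⧸ X)) = 2 ^ dimM := by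
    have h := Module.natCard_eq_pow_finrank (K := ZMod 2) (V := Additive (P ⧸ X))
    rwa [Nat.card_zmod] at h
  let L' : MulAut (P ⧸ X) :=
    { toFun := QuotientGroup.map X X (ρ l).toMonoidHom fun w hw => hinv l w hw
      invFun := QuotientGroup.map X X (ρ l⁻¹).toMonoidHom fun w hw => hinv l⁻¹ w hw
      left_inv := fun z => by
        induction z using QuotientGroup.induction_on with
        | H y => simp [map_inv]
      right_inv := fun z => by
        induction z using QuotientGroup.induction_on with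
        | H y => simp [map_inv]
      map_mul' := map_mul _ }
  have hL'pow : ∀ (i : ℕ) (y : P), (L' ^ i) (QuotientGroup.mk' X y) = QuotientGroup.mk' X ((ρ l ^ i) y) := by
    intro i
    induction i with
    | zero => intro y; rfl
    | succ i ih => intro y; rw [pow_succ' L', MulAut.mul_apply, ih, pow_succ' (ρ l)]; rfl
  obtain ⟨j, hj, hkj⟩ := card_invariant (hP.to_quotient X) hk.pos hord hdvd L'
    (MulEquiv.ext fun z => by
      obtain ⟨y, rfl⟩ := QuotientGroup.mk'_surjective X z
      rw [hL'pow, hl]; rfl)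
    (fun z hz => by
      obtain ⟨y, rfl⟩ := QuotientGroup.mk'_surjective X z
      exact congrArg Additive.toMul (hlfix (π y) (congrArg Additive.ofMul hz)))
    ⊤ fun z _ => mem_top _
  rw [Nat.card_congr Subgroup.topEquiv.toEquiv] at hj
  have hdimj : dimM = j := Nat.pow_right_injective le_rfl (hcardM.symm.trans hj)
  have hdim2k : dimM = 2 * k := by
    have hpos : 0 < dimM := Module.finrank_pos
    obtain ⟨e, he⟩ := hkj
    obtain ⟨f', hf'⟩ := hd2
    have hle : dimM ≤ 2 * k := by omega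
    rw [← hdimj] at he
    have he2 : e ≤ 2 := by
      by_contra h
      have := Nat.mul_le_mul_left k (show 3 ≤ e by omega)
      have hk0 := hk.pos
      omega
    interval_cases e
    · omega
    · exfalso
      obtain ⟨c, hc⟩ := hk
      rw [mul_one] at he
      rw [mul_assoc] at hf'
      omega
    · omega
  have hdk : d ∣ k := Nat.dvd_of_mul_dvd_mul_left two_pos (hdim2k ▸ hd2)
  -- acting trivially on the quotient forces acting trivially on the involutions
  have hker : ∀ g, E g = 1 → ∀ x ∈ X, ρ g x = x := by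
    intro g hg
    have hfixsq : ∀ y, ρ g (y ^ 2) = y ^ 2 := fun y => by
      have h1 : π (ρ g y) = π y := by rw [← hE, hg]; rfl
      have h2 : sq (ρ g y) = sq y := by rw [← hq, h1, hq]
      rw [map_pow]
      exact congrArg Subtype.val (Additive.ofMul.injective h2)
    let Q : Subgroup P := closure {z | ∃ y : P, z = y ^ 2}
    have hQX : Q ≤ X := (closure_le _).2 (by rintro z ⟨y, rfl⟩; exact hsq y)
    have hQl : ∀ z ∈ Q, ρ l z ∈ Q := by
      have hle : Q ≤ Q.comap (ρ l).toMonoidHom := by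
        refine (closure_le _).2 ?_
        rintro z ⟨y, rfl⟩
        exact subset_closure ⟨ρ l y, map_pow _ _ _⟩
      exact fun z hz => hle hz
    obtain ⟨i, hi, hki⟩ := card_invariant hP hk.pos hord hdvd (ρ l) hl hfix Q hQl
    have hQ1 : i ≠ 0 := by
      intro hi0
      rw [hi0, pow_zero] at hi
      obtain ⟨m, hm⟩ := exists_ne (0 : Additive (P ⧸ X))
      obtain ⟨y, rfl⟩ := hsur m
      have hy : y ^ 2 = 1 := by
        have hmem : y ^ 2 ∈ Q := subset_closure ⟨y, rfl⟩
        rwa [eq_bot_of_card_eq _ hi, mem_bot] at hmem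
      exact hm (congrArg Additive.ofMul ((QuotientGroup.eq_one_iff y).2 ((hX y).2 hy)))
    have hQeq : Q = X := eq_of_le_of_card_ge hQX (by
      rw [hi]
      exact hXcard.trans (Nat.pow_le_pow_right two_pos (Nat.le_of_dvd (Nat.pos_of_ne_zero hQ1) hki)))
    have hfixQ : Q ≤ (ρ g).toMonoidHom.eqLocus (MonoidHom.id P) :=
      (closure_le _).2 (by rintro z ⟨y, rfl⟩; exact hfixsq y)
    exact fun x hx => hfixQ (hQeq ▸ hx)
  refine ⟨d, hdk, hTo ▸ hdn, ?_, fun hdk' g g' x hx => ?_⟩
  · have hrep : ∀ y : (restrict ρ X hinv).range, ∃ g, restrict ρ X hinv g = y := fun y => y.2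
    choose g hg using hrep
    have hEc : ∀ g, Commute (E g) T := fun g => by
      show E g * T = T * E g
      rw [hTd, ← map_mul, ← map_mul]
      exact LinearMap.ext fun m => by
        obtain ⟨y, rfl⟩ := hsur m
        rw [hE, hE, map_mul, map_mul, hsc g]
    have hinj : Function.Injective fun y : (restrict ρ X hinv).range =>
        (⟨E (g y), hEc _⟩ : {S : Module.End (ZMod 2) (Additive (P ⧸ X)) // Commute S T}) := by
      intro y y' hyy
      have h1 : E (g y) = E (g y') := congrArg Subtype.val hyy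
      have h2 : E ((g y)⁻¹ * g y') = 1 := by rw [map_mul, ← h1, ← map_mul, inv_mul_cancel, map_one]
      refine Subtype.ext ((hg y).symm.trans ((MulEquiv.ext fun w => Subtype.ext ?_).trans (hg y')))
      show ρ (g y) w = ρ (g y') w
      have h3 := congrArg (ρ (g y)) (hker _ h2 w w.2)
      rw [← h3, ← MulAut.mul_apply, ← map_mul, mul_inv_cancel_left]
    haveI : Finite (Module.End (ZMod 2) (Additive (P ⧸ X))) :=
      Finite.of_injective _ DFunLike.coe_injective
    refine (Nat.card_le_card_of_injective _ hinj).trans (hcard.trans ?_)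
    rw [hdim2k, Nat.mul_div_mul_left _ _ two_pos]
    refine Nat.pow_le_pow_right two_pos (le_of_eq ?_)
    obtain ⟨e, rfl⟩ := hdk
    rw [Nat.mul_div_cancel_left _ hd0]
    ring
  · have hEc : ∀ g, Commute (E g) T := fun g => by
      show E g * T = T * E g
      rw [hTd, ← map_mul, ← map_mul]
      exact LinearMap.ext fun m => by
        obtain ⟨y, rfl⟩ := hsur m
        rw [hE, hE, map_mul, map_mul, hsc g]
    have h1 := habel (by omega) (E g) (E g') (hEc g) (hEc g')
    have h2 : E ((g' * g)⁻¹ * (g * g')) = 1 := by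
      rw [map_mul, map_mul E g g', h1.eq, ← map_mul E g' g, ← map_mul, inv_mul_cancel, map_one]
    have h3 := congrArg (ρ (g' * g)) (hker _ h2 x hx)
    rw [← MulAut.mul_apply, ← map_mul, mul_inv_cancel_left, map_mul, map_mul] at h3
    exact h3

/-- The bound: an automorphism of prime power order fixing the involutions and commuting with a
group containing the fixed-point-free one. -/
theorem image_bound {Γ : Type v} [Group Γ] [Finite Γ] {P : Type u} [Group P] [Finite P]
    (hP : IsPGroup 2 P) (ρ : Γ →* MulAut P) (W : Subgroup P) (hW : ∀ x, x ∈ W ↔ x ^ 2 = 1)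
    (hWcard : Nat.card W = 2 ^ k) [Fact r.Prime] (hr : Odd r) (hk : Odd k)
    (hdvd : r ∣ 2 ^ k - 1) (hord : ∀ j, 0 < j → j < k → ¬ r ∣ 2 ^ j - 1) (l s : Γ)
    (hl : ρ l ^ r = 1) (hfix : ∀ x, ρ l x = x → x = 1) (hsc : ∀ g, ρ g * ρ s = ρ s * ρ g)
    {p a : ℕ} [Fact p.Prime] (hp : Odd p) (ha : 0 < a) (hso : orderOf (ρ s) = p ^ a)
    (hsW : ∀ x ∈ W, ρ s x = x) (hinv : ∀ g, ∀ x ∈ W, ρ g x ∈ W) :
    ∃ d, d ∣ k ∧ orderOf (ρ s) ∣ 2 ^ d + 1 ∧ orderOf (ρ s) ∣ 2 ^ k + 1 ∧
      Nat.card (restrict ρ W hinv).range ≤ 2 ^ (2 * k * (k / d)) ∧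
      (d = k → ∀ g g' : Γ, ∀ x ∈ W, ρ g (ρ g' x) = ρ g' (ρ g x)) := by
  classical
  obtain ⟨a, rfl⟩ : ∃ b, a = b + 1 := ⟨a - 1, by omega⟩
  set τ := ρ s ^ p ^ a with hτd
  have hτ1 : τ ≠ 1 := fun h => by
    have := Nat.le_of_dvd (pow_pos (Fact.out : p.Prime).pos a) (hso ▸ orderOf_dvd_of_pow_eq_one h)
    exact absurd this (not_le.2 (Nat.pow_lt_pow_right (Fact.out : p.Prime).one_lt (Nat.lt_succ_self a)))
  obtain ⟨K, ⟨hK, hKτ⟩, hKmin⟩ := Set.exists_min_image
    {U : Subgroup P | (∀ g, ∀ x ∈ U, ρ g x ∈ U) ∧ ∃ x ∈ U, τ x ≠ x} (fun U => Nat.card U)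
    (Set.toFinite _) ⟨⊤, fun _ x _ => mem_top _, by
      by_contra h
      push Not at h
      exact hτ1 (MulEquiv.ext fun x => h x (mem_top x))⟩
  let ρK := restrict ρ K hK
  have hρKpow : ∀ (g : Γ) (i : ℕ) (x : K), (((ρK g ^ i) x : K) : P) = (ρ g ^ i) x := by
    intro g i x
    rw [← map_pow, ← map_pow]
    rfl
  have hWK : W ≤ K := by
    obtain ⟨j, hj, hkj⟩ := card_invariant hP hk.pos hord hdvd (ρ l) hl hfix (W ⊓ K)
      fun x hx => ⟨hinv l x hx.1, hK l x hx.2⟩
    have hj0 : j ≠ 0 := by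
      rintro rfl
      rw [pow_zero] at hj
      haveI : Fact (Nat.Prime 2) := ⟨Nat.prime_two⟩
      obtain ⟨x, hxK, hx⟩ := hKτ
      obtain ⟨i, hi⟩ := IsPGroup.iff_card.1 (hP.to_subgroup K)
      have hi0 : i ≠ 0 := by
        rintro rfl
        rw [pow_zero] at hi
        have hx1 : x = 1 := by rw [eq_bot_of_card_eq K hi, mem_bot] at hxK; exact hxK
        exact hx (by rw [hx1, map_one])
      obtain ⟨y, hy⟩ := exists_prime_orderOf_dvd_card' (G := K) 2 (hi ▸ dvd_pow_self 2 hi0)
      have hy1 : (y : P) ∈ W ⊓ K :=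
        ⟨(hW _).2 (by rw [← hy, ← Subgroup.orderOf_coe, pow_orderOf_eq_one]), y.2⟩
      rw [eq_bot_of_card_eq _ hj, mem_bot] at hy1
      rw [← Subgroup.orderOf_coe, hy1, orderOf_one] at hy
      omega
    have : W ⊓ K = W := eq_of_le_of_card_ge inf_le_left (by
      rw [hj, hWcard]
      exact Nat.pow_le_pow_right two_pos (Nat.le_of_dvd (Nat.pos_of_ne_zero hj0) hkj))
    exact this ▸ inf_le_right
  let X : Subgroup K := W.subgroupOf K
  obtain ⟨d, hdk, hdp, hcard, habel⟩ := minimal_bound (hP.to_subgroup K) ρK hr hk hdvd hord l s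
    (MulEquiv.ext fun x => Subtype.ext (by
      show (((ρK l ^ r) x : K) : P) = (x : P)
      rw [hρKpow, hl]; rfl))
    (fun x hx => Subtype.ext (hfix x (congrArg Subtype.val hx)))
    (fun g => MulEquiv.ext fun x => Subtype.ext (DFunLike.congr_fun (hsc g) (x : P)))
    hp (p := p) (a := a)
    (MulEquiv.ext fun x => Subtype.ext (by
      show (((ρK s ^ p ^ (a + 1)) x : K) : P) = (x : P)
      rw [hρKpow, ← hso, pow_orderOf_eq_one]; rfl))
    (fun h => by
      obtain ⟨x, hxK, hx⟩ := hKτ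
      refine hx ?_
      have := congrArg Subtype.val (DFunLike.congr_fun h ⟨x, hxK⟩)
      rwa [hρKpow] at this)
    (fun U hU hUtop x hx => Subtype.ext (by
      rw [hρKpow]
      by_contra hne
      refine hUtop (eq_top_of_card_eq U (le_antisymm (card_le_card_group U) ?_))
      rw [← card_map_of_injective K.subtype_injective (K := U)]
      refine hKmin (U.map K.subtype) ⟨?_, (x : P), ⟨x, hx, rfl⟩, hne⟩
      rintro g _ ⟨y, hy, rfl⟩
      exact ⟨ρK g y, hU g y hy, rfl⟩))
    X (fun x => by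
      rw [mem_subgroupOf, hW, ← Subgroup.coe_pow]
      exact ⟨fun h => Subtype.ext h, fun h => congrArg Subtype.val h⟩)
    (by rw [Nat.card_congr (subgroupOfEquivOfLe hWK).toEquiv, hWcard])
    (fun x hx => Subtype.ext (hsW _ hx)) (fun g x hx => hinv g _ hx)
  refine ⟨d, hdk, hso ▸ hdp, ?_, ?_, fun h g g' x hx => ?_⟩
  · obtain ⟨e, rfl⟩ := hdk
    have he : Odd e := (Nat.odd_mul.1 hk).2
    rw [pow_mul]
    exact hso ▸ hdp.trans (by simpa using he.nat_add_dvd_pow_add_pow (2 ^ d) 1)
  · refine le_trans ?_ hcard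
    have hrep : ∀ y : (restrict ρ W hinv).range, ∃ g, restrict ρ W hinv g = y := fun y => y.2
    choose g hg using hrep
    refine Nat.card_le_card_of_injective
      (fun y => (⟨_, g y, rfl⟩ : (restrict ρK X fun g x hx => hinv g _ hx).range)) fun y y' h => ?_
    refine Subtype.ext ((hg y).symm.trans ((MulEquiv.ext fun w => Subtype.ext ?_).trans (hg y')))
    have := congrArg Subtype.val (congrArg Subtype.val
      (DFunLike.congr_fun (congrArg Subtype.val h) (⟨⟨w, hWK w.2⟩, w.2⟩ : X)))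
    exact this
  · exact congrArg Subtype.val (habel h g g' ⟨x, hWK hx⟩ hx)

end Group

/-- The weight inequality cannot hold. -/
theorem weight_lt {k N a e : ℕ} (hk : Odd k) (hk3 : 3 ≤ k) (hN : (2 ^ k + 1) ^ k ≤ N)
    (h : (e ≤ 3 ∧ a ≤ ∏ i ∈ Finset.Ico 1 k, (2 ^ k - 2 ^ i)) ∨
      ∃ d, 3 ≤ d ∧ d ∣ k ∧ d < k ∧ e ≤ 2 ^ k + 1 ∧ a ≤ k * 2 ^ (2 * k * (k / d))) :
    2 ^ (k + 1) * e * (a * e) ^ 2 < (N - 1) ^ 2 := by
  have hlow : 2 ^ (k * k) ≤ N - 1 := by
    have h1 : (2 ^ k) ^ k < (2 ^ k + 1) ^ k := Nat.pow_lt_pow_left (Nat.lt_succ_self _) (by omega)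
    rw [← pow_mul] at h1
    omega
  rcases h with ⟨he, ha⟩ | ⟨d, hd3, hdk, hdlt, he, ha⟩
  · have h3 : k = 3 ∨ k = 5 ∨ 7 ≤ k := by obtain ⟨c, hc⟩ := hk; omega
    rcases h3 with rfl | rfl | h7
    · have hp : ∏ i ∈ Finset.Ico 1 3, (2 ^ 3 - 2 ^ i) = 24 := by decide
      rw [hp] at ha
      calc 2 ^ (3 + 1) * e * (a * e) ^ 2 ≤ 2 ^ (3 + 1) * 3 * (24 * 3) ^ 2 := by gcongr
        _ < (728) ^ 2 := by norm_num
        _ ≤ _ := Nat.pow_le_pow_left (by norm_num at hN ⊢; omega) 2
    · have hp : ∏ i ∈ Finset.Ico 1 5, (2 ^ 5 - 2 ^ i) = 322560 := by decide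
      rw [hp] at ha
      calc 2 ^ (5 + 1) * e * (a * e) ^ 2 ≤ 2 ^ (5 + 1) * 3 * (322560 * 3) ^ 2 := by gcongr
        _ < (39135392) ^ 2 := by norm_num
        _ ≤ _ := Nat.pow_le_pow_left (by norm_num at hN ⊢; omega) 2
    · have hp : ∏ i ∈ Finset.Ico 1 k, (2 ^ k - 2 ^ i) ≤ 2 ^ (k * (k - 1)) := by
        refine (Finset.prod_le_prod' fun i _ => Nat.sub_le (2 ^ k) (2 ^ i)).trans ?_
        rw [Finset.prod_const, Nat.card_Ico, ← pow_mul]
      calc 2 ^ (k + 1) * e * (a * e) ^ 2 ≤ 2 ^ (k + 1) * 3 * (2 ^ (k * (k - 1)) * 3) ^ 2 := by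
            gcongr; exact ha.trans hp
        _ = 27 * 2 ^ (k + 1 + 2 * (k * (k - 1))) := by ring
        _ < 2 ^ 5 * 2 ^ (k + 1 + 2 * (k * (k - 1))) := by
            gcongr
            norm_num
        _ = 2 ^ (5 + (k + 1 + 2 * (k * (k - 1)))) := (pow_add 2 5 _).symm
        _ ≤ 2 ^ (2 * (k * k)) := by
            refine Nat.pow_le_pow_right two_pos ?_
            obtain ⟨c, rfl⟩ := Nat.exists_eq_add_of_le h7
            rw [show 7 + c - 1 = 6 + c by omega]
            nlinarith
        _ ≤ _ := by rw [mul_comm 2, pow_mul]; exact Nat.pow_le_pow_left hlow 2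
  · obtain ⟨m, rfl⟩ := hdk
    rw [Nat.mul_div_cancel_left m (by omega)] at ha
    have hm : 3 ≤ m := by
      have h2 := (Nat.odd_mul.1 hk).2
      rcases h2 with ⟨c, rfl⟩
      rcases Nat.eq_zero_or_pos c with rfl | hc
      · omega
      · omega
    set k := d * m with hkd
    have hk9 : 9 ≤ k := le_trans (by norm_num) (Nat.mul_le_mul hd3 hm)
    have hsq : ∀ n, 4 ≤ n → n ^ 2 ≤ 2 ^ n := by
      intro n hn
      induction n, hn using Nat.le_induction with
      | base => norm_num
      | succ n hn ih => rw [pow_succ 2 n]; nlinarith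
    have he' : e ≤ 2 ^ (k + 1) := by
      have : 2 ≤ 2 ^ k := le_trans (by norm_num) (Nat.pow_le_pow_right two_pos (show 1 ≤ k by omega))
      rw [pow_succ]; omega
    calc 2 ^ (k + 1) * e * (a * e) ^ 2
        ≤ 2 ^ (k + 1) * 2 ^ (k + 1) * (k * 2 ^ (2 * k * m) * 2 ^ (k + 1)) ^ 2 := by gcongr
      _ = k ^ 2 * 2 ^ (4 * (k + 1) + 4 * k * m) := by ring
      _ ≤ 2 ^ k * 2 ^ (4 * (k + 1) + 4 * k * m) := Nat.mul_le_mul_right _ (hsq k (by omega))
      _ = 2 ^ (k + (4 * (k + 1) + 4 * k * m)) := (pow_add 2 k _).symm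
      _ < 2 ^ (2 * (k * k)) := by
          refine Nat.pow_lt_pow_right one_lt_two ?_
          have hkm : 3 * (k * m) ≤ k * k := by rw [hkd]; nlinarith
          have := Nat.mul_le_mul_right k hk9
          nlinarith
      _ ≤ _ := by rw [mul_comm 2, pow_mul]; exact Nat.pow_le_pow_left hlow 2


end CfsgLib.Bender.LemmaBounds
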