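import Cfsg.Agent.S0205
import Mathlib.LinearAlgebra.Matrix.Charpoly.Basic
import Mathlib.GroupTheory.Solvable

/-!
Groups of odd order in dimension two over a field of characteristic two are commutative.
-/

set_option autoImplicit false
set_option linter.style.haveILetI false

namespace CfsgLib.Bender.OddTwo

open Matrix

variable {K : Type*} [Field K]

/-- Two matrices commuting with a non-scalar matrix of size two commute. -/
theorem commute_of_commute_nonscalar {b x y : Matrix (Fin 2) (Fin 2) K}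
    (hb : ¬ ∃ s : K, b = s • (1 : Matrix (Fin 2) (Fin 2) K))
    (hx : x * b = b * x) (hy : y * b = b * y) : x * y = y * x := by
  have hx00 := congrFun (congrFun hx 0) 0
  have hx01 := congrFun (congrFun hx 0) 1
  have hx10 := congrFun (congrFun hx 1) 0
  have hy00 := congrFun (congrFun hy 0) 0
  have hy01 := congrFun (congrFun hy 0) 1
  have hy10 := congrFun (congrFun hy 1) 0
  simp only [Matrix.mul_apply, Fin.sum_univ_two] at hx00 hx01 hx10 hy00 hy01 hy10
  have key : b 0 1 ≠ 0 ∨ b 1 0 ≠ 0 ∨ b 1 1 - b 0 0 ≠ 0 := by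
    by_contra h
    push Not at h
    refine hb ⟨b 0 0, ?_⟩
    ext i j
    fin_cases i <;> fin_cases j <;> simp [h.1, h.2.1, sub_eq_zero.mp h.2.2]
  have e1 : x 0 1 * y 1 0 = y 0 1 * x 1 0 := by
    rcases key with h | h | h <;> refine mul_left_cancel₀ h ?_ <;> grind
  have e2 : x 0 1 * (y 1 1 - y 0 0) = y 0 1 * (x 1 1 - x 0 0) := by
    rcases key with h | h | h <;> refine mul_left_cancel₀ h ?_ <;> grind
  have e3 : x 1 0 * (y 1 1 - y 0 0) = y 1 0 * (x 1 1 - x 0 0) := by
    rcases key with h | h | h <;> refine mul_left_cancel₀ h ?_ <;> grind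
  ext i j
  fin_cases i <;> fin_cases j <;> simp [Matrix.mul_apply, Fin.sum_univ_two] <;> grind

/-- An element commuting with a non-scalar matrix is a combination of it and the identity. -/
theorem eq_lin {b y : Matrix (Fin 2) (Fin 2) K}
    (hb : ¬ ∃ s : K, b = s • (1 : Matrix (Fin 2) (Fin 2) K)) (hy : y * b = b * y) :
    ∃ α β : K, y = α • b + β • (1 : Matrix (Fin 2) (Fin 2) K) := by
  have hy00 := congrFun (congrFun hy 0) 0
  have hy01 := congrFun (congrFun hy 0) 1
  have hy10 := congrFun (congrFun hy 1) 0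
  simp only [Matrix.mul_apply, Fin.sum_univ_two] at hy00 hy01 hy10
  by_cases h01 : b 0 1 ≠ 0
  · refine ⟨y 0 1 / b 0 1, y 0 0 - y 0 1 / b 0 1 * b 0 0, ?_⟩
    ext i j
    fin_cases i <;> fin_cases j <;> simp <;> field_simp <;> grind
  · push Not at h01
    by_cases h10 : b 1 0 ≠ 0
    · refine ⟨y 1 0 / b 1 0, y 0 0 - y 1 0 / b 1 0 * b 0 0, ?_⟩
      ext i j
      fin_cases i <;> fin_cases j <;> simp <;> field_simp <;> grind
    · push Not at h10
      have hd : b 1 1 - b 0 0 ≠ 0 := by
        intro h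
        refine hb ⟨b 0 0, ?_⟩
        ext i j
        fin_cases i <;> fin_cases j <;> simp [h01, h10, sub_eq_zero.mp h]
      refine ⟨(y 1 1 - y 0 0) / (b 1 1 - b 0 0),
        y 0 0 - (y 1 1 - y 0 0) / (b 1 1 - b 0 0) * b 0 0, ?_⟩
      ext i j
      fin_cases i <;> fin_cases j <;> simp <;> field_simp <;> grind

/-- A group of odd order has commuting images in dimension two, characteristic two. -/
theorem commute_of_odd [CharP K 2] :
    ∀ (n : ℕ) {A : Type*} [Group A] [Finite A], Nat.card A = n → Odd (Nat.card A) →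
      ∀ φ : A →* Matrix (Fin 2) (Fin 2) K, ∀ a b : A, φ a * φ b = φ b * φ a := by
  intro n
  induction n using Nat.strong_induction_on with
  | _ n ih => ?_
  intro A _ _ hn hodd φ
  by_cases htriv : Subsingleton A
  · intro a b
    rw [Subsingleton.elim a b]
  haveI : Nontrivial A := not_subsingleton_iff_nontrivial.1 htriv
  haveI : Group.IsSolvable A := Cfsg.Agent.S0205.result hodd
  have hlt : commutator A < ⊤ := Group.IsSolvable.commutator_lt_top_of_nontrivial A
  have hcard : Nat.card (commutator A) < n := by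
    rw [← hn]
    rcases lt_or_eq_of_le (Subgroup.card_le_card_group (commutator A)) with h | h
    · exact h
    · exact absurd (Subgroup.eq_top_of_card_eq _ h) hlt.ne
  have hco : Odd (Nat.card (commutator A)) :=
    hodd.of_dvd_nat (Subgroup.card_subgroup_dvd_card _)
  have hcomm := ih _ hcard rfl hco (φ.comp (commutator A).subtype)
  have hdet : ∀ a : A, (φ a).det ≠ 0 := fun a h => by
    have := congrArg Matrix.det (map_mul φ a a⁻¹)
    rw [mul_inv_cancel, map_one, Matrix.det_one, Matrix.det_mul, h, zero_mul] at this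
    exact one_ne_zero this
  have h2 : (2 : K) = 0 := CharTwo.two_eq_zero
  by_cases hsc : ∀ c ∈ commutator A, ∃ s : K, φ c = s • (1 : Matrix (Fin 2) (Fin 2) K)
  · intro a b
    obtain ⟨s, hs⟩ := hsc (a * b * a⁻¹ * b⁻¹)
      (Subgroup.commutator_mem_commutator (Subgroup.mem_top a) (Subgroup.mem_top b))
    have e : φ a * φ b = s • (φ b * φ a) := by
      rw [← map_mul, ← map_mul, show a * b = (a * b * a⁻¹ * b⁻¹) * (b * a) by group, map_mul φ _ (b * a), hs,
        smul_mul_assoc, one_mul]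
    have e2 := congrArg Matrix.det e
    rw [Matrix.det_smul, Fintype.card_fin, Matrix.det_mul, Matrix.det_mul] at e2
    have hs1 : s = 1 := by
      have h3 : (φ b).det * (φ a).det ≠ 0 := mul_ne_zero (hdet b) (hdet a)
      have h4 : (s - 1) ^ 2 = 0 := by grind
      exact sub_eq_zero.1 (pow_eq_zero_iff two_ne_zero |>.1 h4)
    rw [e, hs1, one_smul]
  push Not at hsc
  obtain ⟨c, hc, hns⟩ := hsc
  have hns' : ¬ ∃ s : K, φ c = s • (1 : Matrix (Fin 2) (Fin 2) K) := fun ⟨s, h⟩ => hns s h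
  suffices h : ∀ a : A, φ a * φ c = φ c * φ a by
    exact fun a b => commute_of_commute_nonscalar hns' (h a) (h b)
  intro a
  obtain ⟨m, hm⟩ : Odd (orderOf a) := hodd.of_dvd_nat (orderOf_dvd_natCard a)
  obtain ⟨m', hm'⟩ : Odd (orderOf c) := hodd.of_dvd_nat (orderOf_dvd_natCard c)
  have hya : a * c * a⁻¹ ∈ commutator A := Subgroup.Normal.conj_mem inferInstance c hc a
  have hyc : φ (a * c * a⁻¹) * φ c = φ c * φ (a * c * a⁻¹) := hcomm ⟨_, hya⟩ ⟨c, hc⟩
  obtain ⟨α, β, hy⟩ := eq_lin hns' hyc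
  have hconj : ∀ x : A, φ a * φ x * φ a⁻¹ = φ (a * x * a⁻¹) := fun x => by rw [map_mul, map_mul]
  have htr : (φ (a * c * a⁻¹)).trace = (φ c).trace := by
    rw [← hconj, Matrix.trace_mul_comm, ← mul_assoc, ← map_mul, inv_mul_cancel, map_one, one_mul]
  have hde : (φ (a * c * a⁻¹)).det = (φ c).det := by
    rw [← hconj, Matrix.det_mul_comm, ← mul_assoc, ← map_mul, inv_mul_cancel, map_one, one_mul]
  rw [hy, Matrix.trace_fin_two, Matrix.trace_fin_two] at htr
  rw [hy, Matrix.det_fin_two, Matrix.det_fin_two] at hde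
  simp at htr hde
  have ht : φ c 0 0 + φ c 1 1 ≠ 0 := by
    intro ht
    obtain ⟨d, hd⟩ : ∃ d : K, φ c * φ c = d • (1 : Matrix (Fin 2) (Fin 2) K) := by
      refine ⟨φ c 0 0 * φ c 0 0 + φ c 0 1 * φ c 1 0, ?_⟩
      ext i j
      fin_cases i <;> fin_cases j <;> simp [Matrix.mul_apply, Fin.sum_univ_two] <;> grind
    have h1 : φ c * (d • (1 : Matrix (Fin 2) (Fin 2) K)) ^ m' = 1 := by
      rw [← hd, ← pow_two, ← pow_mul, ← pow_succ', ← map_pow, ← hm', pow_orderOf_eq_one, map_one]
    rw [smul_pow, one_pow, mul_smul_comm, mul_one] at h1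
    by_cases h0 : d ^ m' = 0
    · rw [h0, zero_smul] at h1
      exact zero_ne_one h1
    · refine hns' ⟨(d ^ m')⁻¹, ?_⟩
      rw [← h1, inv_smul_smul₀ h0]
  have hα : α = 1 := by
    have h5 : (α - 1) * (φ c 0 0 + φ c 1 1) = 0 := by grind
    rcases mul_eq_zero.1 h5 with h6 | h6
    · exact sub_eq_zero.1 h6
    · exact absurd h6 ht
  subst hα
  rw [one_smul] at hy
  have e1 : φ a * φ c = (φ c + β • (1 : Matrix (Fin 2) (Fin 2) K)) * φ a := by
    rw [← hy, ← map_mul, ← map_mul]
    congr 1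
    group
  have e2 : φ (a ^ 2) * φ c = φ c * φ (a ^ 2) := by
    have e4 : φ a * φ c = φ c * φ a + β • φ a := by
      rw [e1, add_mul, smul_mul_assoc, one_mul]
    rw [pow_two, map_mul, mul_assoc, e4, mul_add, ← mul_assoc (φ a) (φ c), e4, mul_smul_comm, add_mul,
      smul_mul_assoc, add_assoc, ← add_smul, CharTwo.add_self_eq_zero, zero_smul, add_zero, mul_assoc]
  have e3 : φ ((a ^ 2) ^ (m + 1)) * φ c = φ c * φ ((a ^ 2) ^ (m + 1)) := by
    rw [map_pow]
    exact (Commute.pow_left e2 (m + 1))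
  have ha : (a ^ 2) ^ (m + 1) = a := by
    rw [← pow_mul, show 2 * (m + 1) = orderOf a + 1 by omega, pow_succ, pow_orderOf_eq_one, one_mul]
  rwa [ha] at e3

end CfsgLib.Bender.OddTwo
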