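import Cfsg.Agent.Bender.LemmaA.SquareModule
import Cfsg.Agent.FGSB.QuadZero
import Mathlib.GroupTheory.Frattini
import Mathlib.GroupTheory.PGroup
import Mathlib.GroupTheory.Nilpotent

/-!
Lemma A of the Bender core: a two-group with few involutions, an automorphism of large order with
fixed-point-free powers, and a group of odd order commuting with it and fixing every involution. The squaring map is an
anisotropic quadratic map, so the group of odd order acts as a commutative group.
-/

set_option autoImplicit false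
set_option linter.style.haveILetI false
set_option linter.unusedSectionVars false

namespace CfsgLib.Bender.SquareMap

open Subgroup Finset
open scoped commutatorElement

universe u v

/-- An automorphism moving every element within a subgroup it fixes pointwise, and of odd order, is trivial. -/
theorem eq_one_of_stabilises {P : Type u} [Group P] {n : ℕ} (hP : IsPGroup 2 P) (a : MulAut P) (hn : Odd n)
    (ha : a ^ n = 1) (K : Subgroup P) (hfix : ∀ s ∈ K, a s = s) (hmove : ∀ s, s⁻¹ * a s ∈ K) : a = 1 := by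
  refine MulEquiv.ext fun s => ?_
  obtain ⟨z, hz⟩ : ∃ z, z = s⁻¹ * a s := ⟨_, rfl⟩
  have hz' : z ∈ K := hz ▸ hmove s
  have e : a s = s * z := by rw [hz, mul_inv_cancel_left]
  have hpow : ∀ m : ℕ, (a ^ m) s = s * z ^ m := by
    intro m
    induction m with
    | zero => simp
    | succ m ih =>
      rw [pow_succ', MulAut.mul_apply, ih, map_mul, map_pow, hfix z hz', e, mul_assoc, ← pow_succ']
  have h1 := hpow n
  rw [ha, MulAut.one_apply] at h1
  obtain ⟨j, hj⟩ := hP z
  have hz1 : z = 1 := by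
    rw [← orderOf_eq_one_iff]
    refine Nat.eq_one_of_dvd_coprimes ?_ (orderOf_dvd_of_pow_eq_one hj)
      (orderOf_dvd_of_pow_eq_one (mul_left_cancel (h1.symm.trans (mul_one s).symm)))
    exact Nat.Coprime.pow_left j (Nat.coprime_two_left.2 hn)
  rw [MulAut.one_apply, e, hz1, mul_one]

theorem mul_pow_two_of_comm {P : Type u} [Group P] {a b : P} (h : a * b = b * a) :
    (a * b) ^ 2 = a ^ 2 * b ^ 2 := Commute.mul_pow h 2

/-- The restriction of an action to an invariant subgroup. -/
def restrict {P : Type u} [Group P] {T : Type v} [Group T] (α : T →* MulAut P) (K : Subgroup P)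
    (hK : ∀ t, ∀ s ∈ K, α t s ∈ K) : T →* MulAut K where
  toFun t :=
    { toFun := fun w => ⟨α t w, hK t w w.2⟩
      invFun := fun w => ⟨α t⁻¹ w, hK t⁻¹ w w.2⟩
      left_inv := fun w => Subtype.ext (by simp [map_inv])
      right_inv := fun w => Subtype.ext (by simp [map_inv])
      map_mul' := fun a b => Subtype.ext (by simp) }
  map_one' := by ext w; simp
  map_mul' s t := by ext w; simp

theorem sq_mem_frattini {P : Type u} [Group P] [Finite P] (hP : IsPGroup 2 P) (s : P) : s ^ 2 ∈ frattini P := by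
  haveI : Fact (Nat.Prime 2) := ⟨Nat.prime_two⟩
  rw [frattini, Order.radical]
  simp only [Subgroup.mem_iInf]
  intro M hM
  haveI : Group.IsNilpotent P := hP.isNilpotent
  haveI : M.Normal := NormalizerCondition.normal_of_coatom M Group.normalizerCondition_of_isNilpotent hM
  obtain ⟨j, hj⟩ := hP.index M
  have hP' : IsPGroup 2 (P ⧸ M) := hP.to_quotient M
  haveI : Nontrivial (P ⧸ M) := QuotientGroup.nontrivial_iff.2 hM.1
  have htop : ∀ y : P ⧸ M, y ≠ 1 → zpowers y = ⊤ := by
    intro y hy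
    refine comap_injective (QuotientGroup.mk'_surjective M) ?_
    rw [comap_top]
    refine hM.2 _ (lt_of_le_of_ne (fun m hm => ?_) fun h => ?_)
    · rw [mem_comap, show QuotientGroup.mk' M m = 1 from (QuotientGroup.eq_one_iff m).2 hm]
      exact one_mem _
    · obtain ⟨y₀, rfl⟩ := QuotientGroup.mk'_surjective M y
      exact hy ((QuotientGroup.eq_one_iff y₀).2 (h.symm.le (mem_zpowers (QuotientGroup.mk' M y₀))))
  obtain ⟨x, hx⟩ := exists_prime_orderOf_dvd_card' 2 (hP'.card_eq_or_dvd.resolve_left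
    (Finite.one_lt_card (α := P ⧸ M)).ne')
  have hx1 : x ≠ 1 := fun h => by rw [h, orderOf_one] at hx; norm_num at hx
  have hc : Nat.card (P ⧸ M) = 2 := by
    rw [← Subgroup.card_top (G := P ⧸ M), ← htop x hx1, Nat.card_zpowers, hx]
  refine (QuotientGroup.eq_one_iff _).1 ?_
  rw [QuotientGroup.mk_pow, ← hc]
  exact pow_card_eq_one'

/-- The quotient by the involutions as a module, and the final count. -/
theorem false_of_step {P : Type u} [Group P] [Finite P] {r k : ℕ} (hr : Odd r) (hk : 0 < k)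
    (hdvd : r ∣ 2 ^ k - 1) (hord : ∀ j, 0 < j → j < k → ¬ r ∣ 2 ^ j - 1)
    {A : Type v} [Group A] [Finite A] (hA : Odd (Nat.card A)) (ρ : A →* MulAut P) (L : MulAut P)
    (hL : L ^ r = 1) (hLA : ∀ a, ρ a * L = L * ρ a)
    (hfix : ∀ i, 0 < i → i < r → ∀ s, (L ^ i) s = s → s = 1)
    (W : Subgroup P) [W.Normal] (hWc : W ≤ center P) (hWe : ∀ w ∈ W, w ^ 2 = 1) (hsq : ∀ s : P, s ^ 2 ∈ W)
    (hinv : ∀ s : P, s ^ 2 = 1 → s ∈ W) (hcard : Nat.card W ≤ 2 ^ k)
    (a b : A) (s : P) : s⁻¹ * (ρ ⁅a, b⁆) s ∈ W := by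
  classical
  -- the quotient is elementary
  have hq2 : ∀ x : P ⧸ W, x * x = 1 := by
    intro x
    obtain ⟨y, rfl⟩ := QuotientGroup.mk'_surjective W x
    rw [← map_mul, ← pow_two]
    exact (QuotientGroup.eq_one_iff _).2 (hsq y)
  letI : CommGroup (P ⧸ W) :=
    { (inferInstance : Group (P ⧸ W)) with
      mul_comm := fun x y => by
        have h := hq2 (x * y)
        have hx := inv_eq_of_mul_eq_one_right (hq2 x)
        have hy := inv_eq_of_mul_eq_one_right (hq2 y)
        calc x * y = (x * y)⁻¹ := (inv_eq_of_mul_eq_one_right h).symm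
          _ = y * x := by rw [mul_inv_rev, hx, hy] }
  letI : Module (ZMod 2) (Additive (P ⧸ W)) := AddCommGroup.zmodModule fun m => by
    rw [two_nsmul]; exact hq2 m.toMul
  letI : CommGroup W :=
    { (inferInstance : Group W) with
      mul_comm := fun x y => Subtype.ext (Subgroup.mem_center_iff.1 (hWc y.2) x) }
  letI : Module (ZMod 2) (Additive W) := AddCommGroup.zmodModule fun m => by
    rw [two_nsmul]; exact Subtype.ext ((pow_two (m.toMul : W).1).symm.trans (hWe _ m.toMul.2))
  have hcom : ∀ x y : P, ⁅x, y⁆ ∈ W := fun x y => by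
    rw [← QuotientGroup.eq_one_iff, ← QuotientGroup.mk'_apply, map_commutatorElement,
      commutatorElement_eq_one_iff_mul_comm]
    exact mul_comm _ _
  have hWcom : ∀ w ∈ W, ∀ y : P, y * w = w * y := fun w hw y => Subgroup.mem_center_iff.1 (hWc hw) y
  -- squares and commutators are functions on the quotient
  let sq : P → Additive W := fun y => Additive.ofMul ⟨y ^ 2, hsq y⟩
  let cm : P → P → Additive W := fun x y => Additive.ofMul ⟨⁅y, x⁆, hcom y x⟩
  have hsq_w : ∀ (y : P) (w : P), w ∈ W → sq (y * w) = sq y := by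
    intro y w hw
    refine congrArg Additive.ofMul (Subtype.ext ?_)
    show (y * w) ^ 2 = y ^ 2
    rw [mul_pow_two_of_comm (hWcom w hw y), hWe w hw, mul_one]
  have hsq_mul : ∀ x y : P, sq (x * y) = sq x + sq y + cm x y := by
    intro x y
    refine congrArg Additive.ofMul (Subtype.ext ?_)
    show (x * y) ^ 2 = x ^ 2 * y ^ 2 * ⁅y, x⁆
    calc (x * y) ^ 2 = x * (⁅y, x⁆ * (x * y)) * y := by rw [commutatorElement_def, pow_two]; group
      _ = x * (x * y * ⁅y, x⁆) * y := by rw [← hWcom _ (hcom y x)]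
      _ = x * x * y * (⁅y, x⁆ * y) := by group
      _ = x * x * y * (y * ⁅y, x⁆) := by rw [← hWcom _ (hcom y x)]
      _ = _ := by rw [pow_two, pow_two]; group
  let q : Additive (P ⧸ W) → Additive W := fun m => sq m.toMul.out
  have hq : ∀ y : P, q (Additive.ofMul (QuotientGroup.mk' W y)) = sq y := by
    intro y
    obtain ⟨w, hw⟩ := QuotientGroup.mk_out_eq_mul W y
    show sq (QuotientGroup.mk y : P ⧸ W).out = sq y
    rw [hw]
    exact hsq_w y w w.2
  have hsur : ∀ m : Additive (P ⧸ W), ∃ y : P, m = Additive.ofMul (QuotientGroup.mk' W y) := fun m => by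
    obtain ⟨y, hy⟩ := QuotientGroup.mk'_surjective W m.toMul
    exact ⟨y, by rw [hy]; rfl⟩
  have h0 : q 0 = 0 := by
    rw [show (0 : Additive (P ⧸ W)) = Additive.ofMul (QuotientGroup.mk' W (1 : P)) by rw [map_one]; rfl, hq]
    exact congrArg Additive.ofMul (Subtype.ext (one_pow 2))
  have hbil : ∀ x x' y : P, cm (x * x') y = cm x y + cm x' y ∧ cm y (x * x') = cm y x + cm y x' := by
    intro x x' y
    refine ⟨congrArg Additive.ofMul (Subtype.ext ?_), congrArg Additive.ofMul (Subtype.ext ?_)⟩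
    · show ⁅y, x * x'⁆ = ⁅y, x⁆ * ⁅y, x'⁆
      rw [show ⁅y, x * x'⁆ = ⁅y, x⁆ * (x * ⁅y, x'⁆ * x⁻¹) by simp [commutatorElement_def, mul_assoc],
        hWcom _ (hcom y x') x, mul_inv_cancel_right]
    · show ⁅x * x', y⁆ = ⁅x, y⁆ * ⁅x', y⁆
      rw [show ⁅x * x', y⁆ = (x * ⁅x', y⁆ * x⁻¹) * ⁅x, y⁆ by simp [commutatorElement_def, mul_assoc],
        hWcom _ (hcom x' y) x, mul_inv_cancel_right, hWcom _ (hcom x y)]
  have hcw : ∀ (y : P) (w : P), w ∈ W → cm y w = 0 ∧ cm w y = 0 := fun y w hw =>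
    ⟨congrArg Additive.ofMul (Subtype.ext (commutatorElement_eq_one_iff_mul_comm.2 (hWcom w hw y).symm)),
      congrArg Additive.ofMul (Subtype.ext (commutatorElement_eq_one_iff_mul_comm.2 (hWcom w hw y)))⟩
  let Bf : Additive (P ⧸ W) → Additive (P ⧸ W) → Additive W := fun m m' => cm m.toMul.out m'.toMul.out
  have hB : ∀ x y : P, Bf (Additive.ofMul (QuotientGroup.mk' W x)) (Additive.ofMul (QuotientGroup.mk' W y)) = cm x y := by
    intro x y
    obtain ⟨w, hw⟩ := QuotientGroup.mk_out_eq_mul W x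
    obtain ⟨w', hw'⟩ := QuotientGroup.mk_out_eq_mul W y
    show cm (QuotientGroup.mk x : P ⧸ W).out (QuotientGroup.mk y : P ⧸ W).out = cm x y
    rw [hw, hw', (hbil x w _).1, (hbil y w' x).2, (hcw _ _ w.2).2, (hcw _ _ w'.2).1, add_zero, add_zero]
  have hBl : ∀ m m' n, Bf (m + m') n = Bf m n + Bf m' n := by
    intro m m' n
    obtain ⟨x, rfl⟩ := hsur m
    obtain ⟨x', rfl⟩ := hsur m'
    obtain ⟨y, rfl⟩ := hsur n
    rw [← ofMul_mul, ← map_mul, hB, hB, hB]
    exact (hbil x x' y).1
  have hBr : ∀ m n n', Bf m (n + n') = Bf m n + Bf m n' := by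
    intro m m' n
    obtain ⟨x, rfl⟩ := hsur m
    obtain ⟨x', rfl⟩ := hsur m'
    obtain ⟨y, rfl⟩ := hsur n
    rw [← ofMul_mul, ← map_mul, hB, hB, hB]
    exact (hbil x' y x).2
  let B : Additive (P ⧸ W) →ₗ[ZMod 2] Additive (P ⧸ W) →ₗ[ZMod 2] Additive W :=
    ((AddMonoidHom.mk' (fun m => ((AddMonoidHom.mk' (Bf m) (hBr m)).toZModLinearMap 2))
      fun m m' => LinearMap.ext fun n => hBl m m' n)).toZModLinearMap 2
  have hqadd : ∀ m m', q (m + m') = q m + q m' + B m m' := by
    intro m m'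
    obtain ⟨x, rfl⟩ := hsur m
    obtain ⟨y, rfl⟩ := hsur m'
    show _ = _ + _ + Bf _ _
    rw [← ofMul_mul, ← map_mul, hq, hq, hq, hB]
    exact hsq_mul x y
  have hani : ∀ m, q m = 0 → m = 0 := by
    intro m hm
    obtain ⟨y, rfl⟩ := hsur m
    rw [hq] at hm
    have h : y ^ 2 = 1 := congrArg Subtype.val (congrArg Additive.toMul hm)
    rw [QuotientGroup.mk'_apply, (QuotientGroup.eq_one_iff y).2 (hinv y h)]
    rfl
  have hdim := CfsgLib.QuadZero.finrank_le q B hqadd h0 hani
  have hM : Nat.card (Additive (P ⧸ W)) ≤ 2 ^ (2 * k) := by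
    have h1 := Module.natCard_eq_pow_finrank (K := ZMod 2) (V := Additive (P ⧸ W))
    have h2 := Module.natCard_eq_pow_finrank (K := ZMod 2) (V := Additive W)
    rw [Nat.card_zmod] at h1 h2
    rw [h1]
    refine Nat.pow_le_pow_right two_pos (hdim.trans ?_)
    have h3 : Nat.card (Additive W) ≤ 2 ^ k := hcard
    rw [h2] at h3
    have := (Nat.pow_le_pow_iff_right one_lt_two).1 h3
    omega
  -- the operators
  have hWinv : ∀ σ : MulAut P, ∀ w ∈ W, σ w ∈ W := fun σ w hw =>
    hinv _ (by rw [← map_pow, hWe w hw, map_one])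
  let E : MulAut P →* AddMonoid.End (Additive (P ⧸ W)) :=
    { toFun := fun σ => MonoidHom.toAdditive (QuotientGroup.map W W σ.toMonoidHom fun w hw => hWinv σ w hw)
      map_one' := AddMonoidHom.ext fun m => by
        obtain ⟨y, rfl⟩ := hsur m
        rfl
      map_mul' := fun σ τ => AddMonoidHom.ext fun m => by
        obtain ⟨y, rfl⟩ := hsur m
        rfl }
  have hlfix : ∀ L : MulAut P, L ^ r = 1 → (∀ s, L s = s → s = 1) → ∀ m, E L m = m → m = 0 := by
    intro L hL hfix m hm
    obtain ⟨y, rfl⟩ := hsur m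
    have h1 : QuotientGroup.mk' W (L y) = QuotientGroup.mk' W y := hm
    obtain ⟨z, hz, hLy⟩ : ∃ z ∈ W, L y = y * z := ⟨y⁻¹ * L y, QuotientGroup.eq.1 h1.symm, by group⟩
    have hyW : y ∈ W := by
      have hpow : ∀ i : ℕ, ∃ w ∈ W, (L ^ i) y = y * w := by
        intro i
        induction i with
        | zero => exact ⟨1, one_mem _, by simp⟩
        | succ i ih =>
          obtain ⟨w, hw, e⟩ := ih
          exact ⟨z * L w, mul_mem hz (hWinv L w hw), by
            rw [pow_succ', MulAut.mul_apply, e, map_mul, hLy, mul_assoc]⟩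
      -- the product over the orbit is fixed
      let Pr : ℕ → P := fun n => ((List.range n).map fun i => (L ^ i) y).prod
      have hPr : ∀ n, ∃ w ∈ W, Pr n = y ^ n * w := by
        intro n
        induction n with
        | zero => exact ⟨1, one_mem _, by simp [Pr]⟩
        | succ n ih =>
          obtain ⟨w, hw, e⟩ := ih
          obtain ⟨w', hw', e'⟩ := hpow n
          refine ⟨w * w', mul_mem hw hw', ?_⟩
          simp only [Pr, List.range_succ, List.map_append, List.prod_append, List.map_cons, List.map_nil,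
            List.prod_cons, List.prod_nil, mul_one] at e ⊢
          rw [e, e', pow_succ, ← mul_assoc, mul_assoc (y ^ n) w, ← hWcom w hw y]
          group
      have hshift : ∀ n, y * L (Pr n) = Pr n * (L ^ n) y := by
        intro n
        induction n with
        | zero => simp [Pr]
        | succ n ih =>
          simp only [Pr, List.range_succ, List.map_append, List.prod_append, List.map_cons, List.map_nil,
            List.prod_cons, List.prod_nil, mul_one] at ih ⊢
          rw [map_mul, ← mul_assoc, ih, pow_succ', MulAut.mul_apply]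
      obtain ⟨w, hw, hPw⟩ := hPr r
      have hcy : Pr r * y = y * Pr r := by
        rw [hPw, mul_assoc, ← hWcom w hw y, ← mul_assoc, ← pow_succ, pow_succ', mul_assoc]
      have hP1 : Pr r = 1 := hfix _ (by
        have h := hshift r
        rw [hL, MulAut.one_apply, hcy] at h
        exact mul_left_cancel h)
      obtain ⟨s', rfl⟩ := hr
      have hyr : y ^ (2 * s' + 1) ∈ W := by
        rw [hP1] at hPw
        rw [show y ^ (2 * s' + 1) = w⁻¹ from eq_inv_of_mul_eq_one_left hPw.symm]
        exact inv_mem hw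
      rw [pow_succ, pow_mul] at hyr
      exact (mul_mem_cancel_left (pow_mem (hsq y) s')).1 hyr
    rw [QuotientGroup.mk'_apply, (QuotientGroup.eq_one_iff y).2 hyW]
    rfl
  have hmain := CfsgLib.Bender.SquareModule.commute_of_dim (M := Additive (P ⧸ W))
    (fun m => hq2 m.toMul) hr hk hdvd hord hM (l := E L)
    (by rw [← map_pow, hL, map_one])
    (fun i hi hir m hm => hlfix (L ^ i) (by rw [← pow_mul, mul_comm, pow_mul, hL, one_pow])
      (hfix i hi hir) m (by rw [map_pow]; exact hm)) hA (E.comp ρ)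
    (fun a => by rw [MonoidHom.comp_apply, ← map_mul, hLA, map_mul])
  have h2 : E (ρ ⁅a, b⁆) = 1 := by
    rw [commutatorElement_def]
    show (E.comp ρ) (a * b * a⁻¹ * b⁻¹) = 1
    rw [map_mul, map_mul, map_mul, hmain a b, mul_assoc ((E.comp ρ) b), ← map_mul (E.comp ρ) a, mul_inv_cancel,
      map_one, mul_one, ← map_mul, mul_inv_cancel, map_one]
  have h3 : QuotientGroup.mk' W (ρ ⁅a, b⁆ s) = QuotientGroup.mk' W s :=
    congrArg (fun e : AddMonoid.End (Additive (P ⧸ W)) => (e (Additive.ofMul (QuotientGroup.mk' W s))).toMul) h2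
  exact QuotientGroup.eq.1 h3.symm

/-- A group of odd order fixing all involutions and commuting with the fixed-point-free automorphism acts
as a commutative group. -/
theorem commutator_acts_trivially {A : Type v} [Group A] [Finite A] (hA : Odd (Nat.card A)) {r k : ℕ}
    (hr : Odd r) (hk : 0 < k) (hdvd : r ∣ 2 ^ k - 1)
    (hord : ∀ j, 0 < j → j < k → ¬ r ∣ 2 ^ j - 1) :
    ∀ (n : ℕ) {P : Type u} [Group P] [Finite P], Nat.card P = n → IsPGroup 2 P →
      ∀ (ρ : A →* MulAut P) (L : MulAut P), L ^ r = 1 → (∀ a, ρ a * L = L * ρ a) →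
        (∀ i, 0 < i → i < r → ∀ s, (L ^ i) s = s → s = 1) →
        (∀ a, ∀ s : P, s ^ 2 = 1 → ρ a s = s) →
        Nat.card {s : P // s ^ 2 = 1} ≤ 2 ^ k → ∀ c ∈ commutator A, ρ c = 1 := by
  intro n
  induction n using Nat.strong_induction_on with
  | _ n ih => ?_
  intro P _ _ hn hP ρ L hL hLA hfix hinvfix hcard c hc
  classical
  by_contra hne
  haveI : Nontrivial P := by
    by_contra h
    haveI := not_nontrivial_iff_subsingleton.1 h
    exact hne (MulEquiv.ext fun s => Subsingleton.elim _ _)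
  have hord' : ∀ a : A, Odd (orderOf a) := fun a => hA.of_dvd_nat (orderOf_dvd_natCard a)
  have hone : ∀ a : A, ρ a ^ orderOf a = 1 := fun a => by rw [← map_pow, pow_orderOf_eq_one, map_one]
  -- proper invariant subgroups are fixed by the derived subgroup
  have hprop : ∀ K : Subgroup P, K ≠ ⊤ → (∀ a, ∀ s ∈ K, ρ a s ∈ K) → (∀ s ∈ K, L s ∈ K) →
      ∀ d ∈ commutator A, ∀ s ∈ K, ρ d s = s := by
    intro K hK hKA hKL d hd s hs
    have hlt : Nat.card K < n := by
      rw [← hn]
      rcases lt_or_eq_of_le (card_le_card_group K) with h | h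
      · exact h
      · exact absurd (eq_top_of_card_eq _ h) hK
    have hLpow : ∀ (i : ℕ), ∀ t ∈ K, (L ^ i) t ∈ K := by
      intro i
      induction i with
      | zero => intro t ht; simpa using ht
      | succ i ihp => intro t ht; rw [pow_succ', MulAut.mul_apply]; exact hKL _ (ihp t ht)
    have hLinv : ∀ t ∈ K, L⁻¹ t ∈ K := by
      intro t ht
      have e : L⁻¹ = L ^ (r - 1) := by
        rw [inv_eq_iff_mul_eq_one, ← pow_succ', Nat.sub_add_cancel hr.pos, hL]
      rw [e]
      exact hLpow _ t ht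
    let L' : MulAut K :=
      { toFun := fun w => ⟨L w, hKL w w.2⟩
        invFun := fun w => ⟨L⁻¹ w, hLinv w w.2⟩
        left_inv := fun w => Subtype.ext (L.symm_apply_apply (w : P))
        right_inv := fun w => Subtype.ext (L.apply_symm_apply (w : P))
        map_mul' := fun a b => Subtype.ext (map_mul L (a : P) (b : P)) }
    have hL'pow : ∀ (i : ℕ) (w : K), (((L' ^ i) w : K) : P) = (L ^ i) (w : P) := by
      intro i
      induction i with
      | zero => intro w; rfl
      | succ i ihp => intro w; rw [pow_succ', MulAut.mul_apply, pow_succ', MulAut.mul_apply, ← ihp w]; rfl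
    have h := ih (Nat.card K) hlt rfl (hP.to_subgroup K) (restrict ρ K hKA) L'
      (MulEquiv.ext fun w => Subtype.ext (by rw [hL'pow, hL]; rfl))
      (fun a => MulEquiv.ext fun w => Subtype.ext (DFunLike.congr_fun (hLA a) (w : P)))
      (fun i hi hir w hw => Subtype.ext (hfix i hi hir w ((hL'pow i w).symm.trans (congrArg Subtype.val hw))))
      (fun a w hw => Subtype.ext (hinvfix a w (congrArg Subtype.val hw)))
      (le_trans (Nat.card_le_card_of_injective
        (fun w : {w : K // w ^ 2 = 1} => (⟨(w.1 : P), congrArg Subtype.val w.2⟩ : {s : P // s ^ 2 = 1}))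
        fun x y e => by
          have e' := congrArg Subtype.val e
          exact Subtype.ext (Subtype.ext e')) hcard) d hd
    exact congrArg Subtype.val (DFunLike.congr_fun h ⟨s, hs⟩)
  -- the moved part is everything
  obtain ⟨K, hKd⟩ : ∃ K, K = closure {z : P | ∃ d ∈ commutator A, ∃ s : P, z = s⁻¹ * ρ d s} := ⟨_, rfl⟩
  have hmove : ∀ d ∈ commutator A, ∀ s, s⁻¹ * ρ d s ∈ K := fun d hd s =>
    hKd ▸ subset_closure ⟨d, hd, s, rfl⟩
  have hKA : ∀ a, ∀ s ∈ K, ρ a s ∈ K := by
    intro a s hs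
    have : K ≤ K.comap (ρ a).toMonoidHom := by
      conv_lhs => rw [hKd]
      rw [closure_le]
      rintro z ⟨d, hd, t, rfl⟩
      have e : ρ a (ρ d t) = ρ (a * d * a⁻¹) (ρ a t) := by
        rw [← MulAut.mul_apply, ← MulAut.mul_apply, ← map_mul, ← map_mul]
        congr 1
        group
      show ρ a (t⁻¹ * ρ d t) ∈ K
      rw [map_mul, map_inv, e]
      exact hmove _ (Normal.conj_mem inferInstance d hd a) _
    exact this hs
  have hKL : ∀ s ∈ K, L s ∈ K := by
    intro s hs
    have : K ≤ K.comap L.toMonoidHom := by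
      conv_lhs => rw [hKd]
      rw [closure_le]
      rintro z ⟨d, hd, t, rfl⟩
      show L (t⁻¹ * ρ d t) ∈ K
      rw [map_mul, map_inv, show L (ρ d t) = ρ d (L t) from (DFunLike.congr_fun (hLA d) t).symm]
      exact hmove _ hd _
    exact this hs
  have hKtop : K = ⊤ := by
    by_contra hK
    exact hne (eq_one_of_stabilises hP _ (hord' c) (hone c) K (hprop K hK hKA hKL c hc) (hmove c hc))
  -- invariant normal proper subgroups are central
  have hcent : ∀ X : Subgroup P, X.Normal → X ≠ ⊤ → (∀ a, ∀ s ∈ X, ρ a s ∈ X) → (∀ s ∈ X, L s ∈ X) →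
      X ≤ center P := by
    intro X hXn hX hXA hXL x hx
    have hK : K ≤ centralizer ({x} : Set P) := by
      rw [hKd, closure_le]
      rintro z ⟨d, hd, t, rfl⟩
      rw [SetLike.mem_coe, mem_centralizer_iff]
      rintro w rfl
      have e1 : ρ d (t * w * t⁻¹) = t * w * t⁻¹ := hprop X hX hXA hXL d hd _ (hXn.conj_mem w hx t)
      have hdw : ρ d w = w := hprop X hX hXA hXL d hd w hx
      rw [map_mul, map_mul, map_inv, hdw] at e1
      calc w * (t⁻¹ * ρ d t) = t⁻¹ * (t * w * t⁻¹) * ρ d t := by group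
        _ = t⁻¹ * (ρ d t * w * (ρ d t)⁻¹) * ρ d t := by rw [e1]
        _ = t⁻¹ * ρ d t * w := by group
    rw [Subgroup.mem_center_iff]
    intro g
    exact ((mem_centralizer_iff.1 (hK (hKtop ▸ mem_top g))) x rfl).symm
  -- the involutions
  have hpres : ∀ (σ : MulAut P) (s : P), s ^ 2 = 1 → σ s ^ 2 = 1 := fun σ s h => by rw [← map_pow, h, map_one]
  obtain ⟨X, hXd⟩ : ∃ X, X = closure {s : P | s ^ 2 = 1} := ⟨_, rfl⟩
  have hXσ : ∀ σ : MulAut P, ∀ s ∈ X, σ s ∈ X := by
    intro σ s hs
    have : X ≤ X.comap σ.toMonoidHom := by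
      conv_lhs => rw [hXd]
      rw [closure_le]
      intro t ht
      exact hXd ▸ subset_closure (hpres σ t ht)
    exact this hs
  have hXn : X.Normal := ⟨fun s hs g => hXσ (MulAut.conj g) s hs⟩
  have hXfix : ∀ a, ∀ s ∈ X, ρ a s = s := by
    intro a s hs
    have : X ≤ (ρ a).toMonoidHom.eqLocus (MonoidHom.id P) := by
      rw [hXd, closure_le]
      intro t ht
      exact hinvfix a t ht
    exact this hs
  have hXtop : X ≠ ⊤ := by
    intro h
    exact hne (MulEquiv.ext fun s => hXfix c s (h ▸ mem_top s))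
  have hXc : X ≤ center P := hcent X hXn hXtop (fun a => hXσ (ρ a)) (hXσ L)
  have hXe : ∀ s ∈ X, s ^ 2 = 1 := by
    intro s hs
    have hs' : s ∈ closure {s : P | s ^ 2 = 1} := hXd ▸ hs
    induction hs' using closure_induction with
    | mem t ht => exact ht
    | one => exact one_pow 2
    | mul t t' ht ht' e e' =>
      rw [mul_pow_two_of_comm (Subgroup.mem_center_iff.1 (hXc (hXd ▸ ht')) t), e (hXd ▸ ht), e' (hXd ▸ ht'), mul_one]
    | inv t ht e => rw [inv_pow, e (hXd ▸ ht), inv_one]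
  -- the squares
  obtain ⟨Q, hQd⟩ : ∃ Q, Q = closure {z : P | ∃ s : P, z = s ^ 2} := ⟨_, rfl⟩
  have hQσ : ∀ σ : MulAut P, ∀ s ∈ Q, σ s ∈ Q := by
    intro σ s hs
    have : Q ≤ Q.comap σ.toMonoidHom := by
      conv_lhs => rw [hQd]
      rw [closure_le]
      rintro t ⟨u, rfl⟩
      exact hQd ▸ subset_closure ⟨σ u, map_pow σ u 2⟩
    exact this hs
  have hQn : Q.Normal := ⟨fun s hs g => hQσ (MulAut.conj g) s hs⟩
  have hQtop : Q ≠ ⊤ := by
    intro h
    have hle : Q ≤ frattini P := by
      rw [hQd, closure_le]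
      rintro t ⟨u, rfl⟩
      exact sq_mem_frattini hP u
    have hf : (frattini P) = ⊤ := top_le_iff.1 (h ▸ hle)
    exact bot_ne_top (frattini_nongenerating (K := (⊥ : Subgroup P)) (by rw [hf, sup_top_eq]))
  have hQc : Q ≤ center P := hcent Q hQn hQtop (fun a => hQσ (ρ a)) (hQσ L)
  have hsqc : ∀ s : P, s ^ 2 ∈ center P := fun s => hQc (hQd ▸ subset_closure ⟨s, rfl⟩)
  have hsqfix : ∀ d ∈ commutator A, ∀ s : P, ρ d (s ^ 2) = s ^ 2 := fun d hd s =>
    hprop Q hQtop (fun a => hQσ (ρ a)) (hQσ L) d hd _ (hQd ▸ subset_closure ⟨s, rfl⟩)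
  have hcomc : ∀ x y : P, ⁅x, y⁆ ∈ center P := fun x y => by
    haveI := hQn
    refine hQc ?_
    rw [← QuotientGroup.eq_one_iff, ← QuotientGroup.mk'_apply, map_commutatorElement,
      commutatorElement_eq_one_iff_mul_comm]
    have h2 : ∀ z : P ⧸ Q, z * z = 1 := by
      intro z
      obtain ⟨u, rfl⟩ := QuotientGroup.mk'_surjective Q z
      rw [← map_mul, ← pow_two]
      exact (QuotientGroup.eq_one_iff _).2 (hQd ▸ subset_closure ⟨u, rfl⟩)
    have hx := inv_eq_of_mul_eq_one_right (h2 (QuotientGroup.mk' Q x))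
    have hy := inv_eq_of_mul_eq_one_right (h2 (QuotientGroup.mk' Q y))
    conv_lhs => rw [← inv_eq_of_mul_eq_one_right (h2 (QuotientGroup.mk' Q x * QuotientGroup.mk' Q y)),
      mul_inv_rev, hx, hy]
  -- products of squares
  have hmulsq : ∀ x y : P, (x * y) ^ 2 = x ^ 2 * y ^ 2 * ⁅y, x⁆ ∧ ⁅y, x⁆ ^ 2 = 1 := by
    intro x y
    have hc1 : ∀ g : P, g * ⁅y, x⁆ = ⁅y, x⁆ * g := Subgroup.mem_center_iff.1 (hcomc y x)
    constructor
    · calc (x * y) ^ 2 = x * (⁅y, x⁆ * (x * y)) * y := by rw [commutatorElement_def, pow_two]; group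
        _ = x * (x * y * ⁅y, x⁆) * y := by rw [hc1]
        _ = x * x * y * (⁅y, x⁆ * y) := by group
        _ = x * x * y * (y * ⁅y, x⁆) := by rw [hc1]
        _ = _ := by rw [pow_two, pow_two]; group
    · have hcc : y ^ 2 * x = x * y ^ 2 := (Subgroup.mem_center_iff.1 (hsqc y) x).symm
      have h1 : ⁅y, x⁆ * ⁅y, x⁆ = ⁅y ^ 2, x⁆ := by
        rw [show ⁅y ^ 2, x⁆ = y * ⁅y, x⁆ * y⁻¹ * ⁅y, x⁆ by rw [pow_two]; simp [commutatorElement_def, mul_assoc],
          hc1 y, mul_inv_cancel_right]
      rw [pow_two, h1, commutatorElement_eq_one_iff_mul_comm.2 hcc]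
  -- the derived subgroup moves every element to one of exponent four
  have hfour : ∀ s : P, (s ^ 2) ^ 2 = 1 := by
    let Ω : Subgroup P :=
      { carrier := {s | (s ^ 2) ^ 2 = 1}
        one_mem' := by simp
        mul_mem' := by
          intro x y hx hy
          show ((x * y) ^ 2) ^ 2 = 1
          rw [(hmulsq x y).1, mul_pow_two_of_comm (Subgroup.mem_center_iff.1 (hcomc y x) _), (hmulsq x y).2, mul_one,
            mul_pow_two_of_comm (Subgroup.mem_center_iff.1 (hsqc y) _), hx, hy, mul_one]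
        inv_mem' := by
          intro x hx
          show ((x⁻¹) ^ 2) ^ 2 = 1
          rw [inv_pow, inv_pow, hx, inv_one] }
    have hle : K ≤ Ω := by
      rw [hKd, closure_le]
      rintro z ⟨d, hd, t, rfl⟩
      obtain ⟨w, hw⟩ : ∃ w, w = t⁻¹ * ρ d t := ⟨_, rfl⟩
      rw [← hw]
      have e : ρ d t = t * w := by rw [hw, mul_inv_cancel_left]
      have h1 := hsqfix d hd t
      rw [map_pow, e, (hmulsq t w).1, mul_assoc] at h1
      have h2 : w ^ 2 = ⁅w, t⁆⁻¹ := eq_inv_of_mul_eq_one_left (mul_eq_left.1 h1)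
      show (w ^ 2) ^ 2 = 1
      rw [h2, inv_pow, (hmulsq t w).2, inv_one]
    intro s
    exact hle (hKtop ▸ mem_top s)
  haveI := hXn
  have hXsq : ∀ s : P, s ^ 2 ∈ X := fun s => hXd ▸ subset_closure (hfour s)
  have hXinv : ∀ s : P, s ^ 2 = 1 → s ∈ X := fun s hs => hXd ▸ subset_closure hs
  have hXcard : Nat.card X ≤ 2 ^ k :=
    le_trans (Nat.card_le_card_of_injective (fun s : X => (⟨(s : P), hXe s s.2⟩ : {s : P // s ^ 2 = 1}))
      fun x y e => by
        have e' := congrArg Subtype.val e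
        exact Subtype.ext e') hcard
  have hAll : ∀ d ∈ commutator A, ∀ s : P, s⁻¹ * ρ d s ∈ X := by
    intro d hd s
    let f : A →* MulAut P := ρ
    let N : Subgroup A :=
      { carrier := {d | ∀ s : P, s⁻¹ * ρ d s ∈ X}
        one_mem' := fun s => by simp
        mul_mem' := by
          intro d d' h h' s
          rw [map_mul, MulAut.mul_apply, show s⁻¹ * ρ d (ρ d' s) = (s⁻¹ * ρ d' s) * ((ρ d' s)⁻¹ * ρ d (ρ d' s)) by group]
          exact mul_mem (h' s) (h _)
        inv_mem' := by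
          intro d h s
          have := inv_mem (h (ρ d⁻¹ s))
          rw [map_inv, MulAut.apply_inv_self, mul_inv_rev, inv_inv] at this
          rw [map_inv]
          exact this }
    have hle : commutator A ≤ N := by
      rw [_root_.commutator_def, commutator_le]
      intro a _ b _ s
      exact false_of_step hr hk hdvd hord hA ρ L hL hLA hfix X hXc hXe hXsq hXinv hXcard a b s
    exact hle hd s
  exact hne (eq_one_of_stabilises hP _ (hord' c) (hone c) X (hXfix c) (hAll c hc))

/-- Lemma A: inside an ambient group, a subgroup of odd order fixing all involutions of the two-group `S`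
and commuting on `S` with a element of large order with fixed-point-free powers acts on `S` as a commutative group. -/
theorem commutator_centralizes {Γ : Type u} [Group Γ] [Finite Γ] {r k : ℕ} (hr : Odd r)
    (hk : 0 < k) (hdvd : r ∣ 2 ^ k - 1) (hord : ∀ j, 0 < j → j < k → ¬ r ∣ 2 ^ j - 1)
    {S A : Subgroup Γ} (hS : IsPGroup 2 S) (hA : Odd (Nat.card A)) (hNA : A ≤ normalizer (S : Set Γ))
    {l : Γ} (hlN : l ∈ normalizer (S : Set Γ)) (hlr : l ^ r = 1)
    (hcomm : ∀ a ∈ A, ∀ s ∈ S, (a * l) * s * (a * l)⁻¹ = (l * a) * s * (l * a)⁻¹)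
    (hfix : ∀ i, 0 < i → i < r → ∀ s ∈ S, l ^ i * s * (l ^ i)⁻¹ = s → s = 1)
    (hinvfix : ∀ a ∈ A, ∀ s ∈ S, s ^ 2 = 1 → a * s = s * a)
    (hcard : Nat.card {s : S // s ^ 2 = 1} ≤ 2 ^ k) :
    ⁅A, A⁆ ≤ centralizer (S : Set Γ) := by
  let ρ : A →* MulAut S := (S.normalizerMonoidHom).comp (inclusion hNA)
  let L : MulAut S := S.normalizerMonoidHom ⟨l, hlN⟩
  have hρ : ∀ (a : A) (s : S), ((ρ a s : S) : Γ) = a * s * (a : Γ)⁻¹ := fun a s => rfl
  have hLs : ∀ s : S, ((L s : S) : Γ) = l * s * l⁻¹ := fun s => rfl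
  have h := commutator_acts_trivially (A := A) hA hr hk hdvd hord (Nat.card S) rfl hS ρ L
    (by rw [← map_pow, show (⟨l, hlN⟩ : normalizer (S : Set Γ)) ^ r = 1 from Subtype.ext hlr, map_one])
    (fun a => MulEquiv.ext fun s => Subtype.ext (by
      show (a : Γ) * (l * s * l⁻¹) * (a : Γ)⁻¹ = l * ((a : Γ) * s * (a : Γ)⁻¹) * l⁻¹
      have := hcomm a a.2 s s.2
      simpa [mul_inv_rev, mul_assoc] using this))
    (fun i hi hir s hs => Subtype.ext (hfix i hi hir s s.2 (by
      rw [← map_pow] at hs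
      exact congrArg Subtype.val hs)))
    (fun a s hs => Subtype.ext (by
      rw [hρ, hinvfix a a.2 s s.2 (congrArg Subtype.val hs), mul_inv_cancel_right]))
    hcard
  rw [Subgroup.commutator_le]
  intro a ha b hb
  rw [mem_centralizer_iff]
  intro s hs
  have h2 := congrArg Subtype.val (DFunLike.congr_fun (h ⁅(⟨a, ha⟩ : A), ⟨b, hb⟩⁆
    (commutator_mem_commutator (mem_top _) (mem_top _))) ⟨s, hs⟩)
  have h3 : ⁅a, b⁆ * s * ⁅a, b⁆⁻¹ = s := h2
  calc s * ⁅a, b⁆ = (⁅a, b⁆ * s * ⁅a, b⁆⁻¹) * ⁅a, b⁆ := by rw [h3]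
    _ = ⁅a, b⁆ * s := by group

end CfsgLib.Bender.SquareMap
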