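import Cfsg.Agent.Bender.LemmaA.OddTwo
import Mathlib.FieldTheory.Finite.GaloisField
import Mathlib.LinearAlgebra.Dual.Lemmas
import Mathlib.LinearAlgebra.Matrix.ToLin
import Mathlib.LinearAlgebra.Basis.VectorSpace
import Mathlib.LinearAlgebra.FiniteDimensional.Basic
import Mathlib.LinearAlgebra.Dimension.FreeAndStrongRankCondition

/-!
A group of odd order commuting with a fixed-point-free operator of large multiplicative order on a small
elementary abelian two-group acts as a commutative group.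
-/

set_option autoImplicit false
set_option linter.style.haveILetI false
set_option linter.unusedSectionVars false

namespace CfsgLib.Bender.SquareModule

open Finset

variable {M : Type*} [AddCommGroup M] {K : Type*} [Field K]

/-- The eigen-functionals. -/
def eigen (l : AddMonoid.End M) (μ : K) : Submodule K (M →+ K) where
  carrier := {f | ∀ m, f (l m) = μ * f m}
  zero_mem' := by intro m; simp
  add_mem' := by intro f g hf hg m; simp [hf m, hg m, mul_add]
  smul_mem' := by intro c f hf m; simp [hf m, mul_left_comm]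

/-- The weighted sum over the powers of the operator. -/
def proj (l : AddMonoid.End M) (r : ℕ) (μ : K) (f : M →+ K) (m : M) : K :=
  ∑ i ∈ range r, μ⁻¹ ^ i * f ((l ^ i) m)

theorem proj_apply_l {l : AddMonoid.End M} {r : ℕ} (hl : l ^ r = 1) {μ : K} (hμ : μ ^ r = 1)
    (hμ0 : μ ≠ 0) (f : M →+ K) (m : M) : proj l r μ f (l m) = μ * proj l r μ f m := by
  have e : ∀ i, μ⁻¹ ^ i * f ((l ^ i) (l m)) = μ * (μ⁻¹ ^ (i + 1) * f ((l ^ (i + 1)) m)) := by
    intro i
    rw [pow_succ l i, pow_succ' μ⁻¹, ← mul_assoc, ← mul_assoc, mul_inv_cancel₀ hμ0, one_mul]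
    rfl
  rw [proj, proj, sum_congr rfl fun i _ => e i, ← mul_sum]
  congr 1
  have h1 := sum_range_succ' (fun i => μ⁻¹ ^ i * f ((l ^ i) m)) r
  have h2 := sum_range_succ (fun i => μ⁻¹ ^ i * f ((l ^ i) m)) r
  rw [h2, hl, inv_pow, hμ, inv_one, pow_zero, pow_zero] at h1
  exact (add_right_cancel h1).symm

/-- The weighted sum as a functional. -/
def projHom (l : AddMonoid.End M) (r : ℕ) (μ : K) (f : M →+ K) : M →+ K :=
  AddMonoidHom.mk' (proj l r μ f) fun a b => by
    simp only [proj, map_add, mul_add, sum_add_distrib]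

theorem pow_apply_eigen {l : AddMonoid.End M} {μ : K} {g : M →+ K} (hg : g ∈ eigen l μ) (i : ℕ) (m : M) :
    g ((l ^ i) m) = μ ^ i * g m := by
  induction i generalizing m with
  | zero => simp
  | succ i ih => rw [pow_succ, show (l ^ i * l) m = (l ^ i) (l m) from rfl, ih, hg m, pow_succ, mul_assoc]

variable [CharP K 2]

theorem natCast_odd {r : ℕ} (hr : Odd r) : (r : K) = 1 := by
  obtain ⟨s, rfl⟩ := hr
  push_cast
  rw [CharTwo.two_eq_zero, zero_mul, zero_add]

theorem geom_eq_zero {r : ℕ} {x : K} (hx : x ^ r = 1) (h1 : x ≠ 1) : ∑ i ∈ range r, x ^ i = 0 := by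
  have := geom_sum_eq h1 r
  rw [this, hx, sub_self, zero_div]

/-- Sum of all weighted sums. -/
theorem sum_proj {l : AddMonoid.End M} {r : ℕ} (hr : Odd r) {ω : K} (hω : IsPrimitiveRoot ω r) (f : M →+ K)
    (m : M) : ∑ j ∈ range r, proj l r (ω ^ j) f m = f m := by
  simp only [proj]
  rw [sum_comm]
  have hrpos : 0 ∈ range r := mem_range.2 hr.pos
  rw [sum_eq_single_of_mem 0 hrpos ?_]
  · simp [natCast_odd (K := K) hr]
  · intro i hi hi0
    rw [← sum_mul]
    have e : ∀ j : ℕ, (ω ^ j)⁻¹ ^ i = (ω⁻¹ ^ i) ^ j := fun j => by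
      rw [inv_pow, inv_pow, inv_pow, ← pow_mul, ← pow_mul, mul_comm]
    rw [sum_congr rfl fun j _ => e j, geom_eq_zero ?_ ?_, zero_mul]
    · rw [← pow_mul, mul_comm, pow_mul, inv_pow, hω.pow_eq_one, inv_one, one_pow]
    · exact hω.inv.pow_ne_one_of_pos_of_lt hi0 (mem_range.1 hi)

theorem proj_one {l : AddMonoid.End M} {r : ℕ} (hl : l ^ r = 1) (hfix : ∀ m, l m = m → m = 0)
    (f : M →+ K) (m : M) : proj l r (1 : K) f m = 0 := by
  have e : proj l r (1 : K) f m = f (∑ i ∈ range r, (l ^ i) m) := by simp [proj, map_sum]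
  rw [e, hfix (∑ i ∈ range r, (l ^ i) m) ?_, map_zero]
  rw [map_sum]
  have h1 := sum_range_succ' (fun i => (l ^ i) m) r
  have h2 := sum_range_succ (fun i => (l ^ i) m) r
  rw [h2, hl, pow_zero] at h1
  rw [add_right_cancel h1]
  refine sum_congr rfl fun i _ => ?_
  rw [pow_succ']
  rfl

/-- Fewer functionals than `card K ^ 2` in an eigen-space. -/
theorem card_eigen_le [Finite M] [Finite K] {l : AddMonoid.End M} {r k : ℕ} (hr : Odd r)
    (hord : ∀ j, 0 < j → j < k → ¬ r ∣ 2 ^ j - 1) (hk : 0 < k) (hbound : Nat.card (M →+ K) ≤ (Nat.card K ^ 2) ^ k)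
    {μ : K} (hprim : IsPrimitiveRoot μ r) : Nat.card (eigen l μ) ≤ Nat.card K ^ 2 := by
  classical
  have hμ : μ ^ r = 1 := hprim.pow_eq_one
  let F : ℕ → (M →+ K) → (M →+ K) := fun j g => AddMonoidHom.mk' (fun m => g m ^ 2 ^ j) fun a b => by
    rw [map_add, add_pow_char_pow]
  have hF : ∀ j g, g ∈ eigen l μ → F j g ∈ eigen l (μ ^ 2 ^ j) := fun j g hg m => by
    show g (l m) ^ 2 ^ j = μ ^ 2 ^ j * g m ^ 2 ^ j
    rw [hg m, mul_pow]
  let Ψ : (Fin k → eigen l μ) → (M →+ K) := fun v => ∑ j : Fin k, F j (v j : M →+ K)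
  have hΨ : Function.Injective Ψ := by
    intro v w hvw
    funext i
    refine Subtype.ext (AddMonoidHom.ext fun m => ?_)
    have hp : ∀ u : Fin k → eigen l μ, proj l r (μ ^ 2 ^ (i : ℕ)) (Ψ u) m = (u i : M →+ K) m ^ 2 ^ (i : ℕ) := by
      intro u
      have hterm : ∀ s : ℕ, Ψ u ((l ^ s) m) = ∑ j : Fin k, (μ ^ 2 ^ (j : ℕ)) ^ s * (u j : M →+ K) m ^ 2 ^ (j : ℕ) := by
        intro s
        rw [AddMonoidHom.finsetSum_apply]
        exact sum_congr rfl fun j _ => pow_apply_eigen (hF j _ (u j).2) s m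
      simp only [proj, hterm, mul_sum]
      rw [sum_comm, sum_eq_single i]
      · simp only [← mul_assoc]
        rw [← sum_mul]
        have hne : μ ^ 2 ^ (i : ℕ) ≠ 0 := pow_ne_zero _ (hprim.ne_zero hr.pos.ne')
        rw [sum_congr rfl fun x _ => show ((μ ^ 2 ^ (i : ℕ))⁻¹ ^ x * (μ ^ 2 ^ (i : ℕ)) ^ x) = (1 : K) by
          rw [← mul_pow, inv_mul_cancel₀ hne, one_pow]]
        simp [natCast_odd (K := K) hr]
      · intro j _ hji
        simp only [← mul_assoc]
        rw [← sum_mul]
        simp only [← mul_pow]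
        rw [geom_eq_zero ?_ ?_, zero_mul]
        · rw [mul_pow, inv_pow, ← pow_mul, ← pow_mul, mul_comm (2 ^ (i : ℕ)), mul_comm (2 ^ (j : ℕ)), pow_mul,
            pow_mul, hμ]
          simp
        · intro h
          have h' : μ ^ 2 ^ (j : ℕ) = μ ^ 2 ^ (i : ℕ) :=
            (inv_mul_eq_one₀ (pow_ne_zero _ (hprim.ne_zero hr.pos.ne'))).1 h |>.symm
          have key : ∀ a b : ℕ, a < b → b < k → μ ^ 2 ^ a ≠ μ ^ 2 ^ b := by
            intro a b hab hb e
            have hm : 2 ^ a ≡ 2 ^ b [MOD r] := by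
              rw [hprim.eq_orderOf]; exact (hprim.isOfFinOrder hr.pos.ne').pow_eq_pow_iff_modEq.1 e
            have hd := (Nat.modEq_iff_dvd' (Nat.pow_le_pow_right two_pos hab.le)).1 hm
            rw [show 2 ^ b - 2 ^ a = 2 ^ a * (2 ^ (b - a) - 1) by
              rw [Nat.mul_sub, mul_one, ← pow_add, Nat.add_sub_cancel' hab.le]] at hd
            exact hord _ (by omega) (by omega)
              (((Nat.coprime_two_right.2 hr).pow_right a).dvd_of_dvd_mul_left hd)
          rcases lt_trichotomy (j : ℕ) i with hlt | heq | hgt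
          · exact key _ _ hlt i.2 h'
          · exact hji (Fin.ext heq)
          · exact key _ _ hgt j.2 h'.symm
      · intro h; exact absurd (mem_univ i) h
    have h := hp v
    rw [hvw, hp w] at h
    exact (iterateFrobenius_inj K 2 (i : ℕ) (by simpa [iterateFrobenius_def] using h)).symm
  haveI : Finite (M →+ K) := Finite.of_injective (fun f => (f : M → K)) DFunLike.coe_injective
  have hc := Nat.card_le_card_of_injective Ψ hΨ
  rw [Nat.card_fun, Nat.card_fin] at hc
  exact (Nat.pow_le_pow_iff_left hk.ne').1 (hc.trans hbound)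

/-- The commutation on one eigen-space. -/
theorem commute_on_eigen [Finite K] {A : Type*} [Group A] [Finite A] (hA : Odd (Nat.card A))
    {l : AddMonoid.End M} (ψ : A →* AddMonoid.End M) (hcomm : ∀ a, ψ a * l = l * ψ a) {μ : K}
    [Finite (eigen l μ)] (hcard : Nat.card (eigen l μ) ≤ Nat.card K ^ 2) {g : M →+ K} (hg : g ∈ eigen l μ)
    (a b : A) (m : M) : g ((ψ a * ψ b) m) = g ((ψ b * ψ a) m) := by
  classical
  let φ : A →* Module.End K (eigen l μ) :=
    { toFun := fun a =>
        { toFun := fun f => ⟨(f : M →+ K).comp (ψ a⁻¹), fun x => by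
            show (f : M →+ K) ((ψ a⁻¹ * l) x) = μ * (f : M →+ K) (ψ a⁻¹ x)
            rw [hcomm]
            exact f.2 _⟩
          map_add' := fun f f' => rfl
          map_smul' := fun c f => rfl }
      map_one' := LinearMap.ext fun f => Subtype.ext (AddMonoidHom.ext fun x => by
        show (f : M →+ K) (ψ 1⁻¹ x) = (f : M →+ K) x
        rw [inv_one, map_one]; rfl)
      map_mul' := fun a b => LinearMap.ext fun f => Subtype.ext (AddMonoidHom.ext fun x => by
        show (f : M →+ K) (ψ (a * b)⁻¹ x) = (f : M →+ K) (ψ b⁻¹ (ψ a⁻¹ x))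
        rw [mul_inv_rev, map_mul]; rfl) }
  haveI hfree : Module.Free K (eigen l μ) := Module.Free.of_divisionRing K (eigen l μ)
  haveI : Module.Finite K (eigen l μ) := Module.Finite.of_finite
  have hd : Module.finrank K (eigen l μ) ≤ 2 := by
    have h := Module.natCard_eq_pow_finrank (K := K) (V := eigen l μ)
    rw [h] at hcard
    exact (Nat.pow_le_pow_iff_right Finite.one_lt_card).1 hcard
  suffices h : φ a⁻¹ * φ b⁻¹ = φ b⁻¹ * φ a⁻¹ by
    have h' := congrArg (fun E : Module.End K (eigen l μ) => ((E ⟨g, hg⟩ : eigen l μ) : M →+ K) m) h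
    have h'' : g (ψ b⁻¹⁻¹ (ψ a⁻¹⁻¹ m)) = g (ψ a⁻¹⁻¹ (ψ b⁻¹⁻¹ m)) := h'
    rw [inv_inv, inv_inv] at h''
    exact h''.symm
  rcases (by omega : Module.finrank K (eigen l μ) ≤ 1 ∨ Module.finrank K (eigen l μ) = 2) with h1 | h2
  · obtain ⟨v, hv⟩ := (finrank_le_one_iff (K := K) (V := eigen l μ)).1 h1
    refine LinearMap.ext fun f => ?_
    obtain ⟨c, rfl⟩ := hv f
    obtain ⟨ca, hca⟩ := hv (φ a⁻¹ v)
    obtain ⟨cb, hcb⟩ := hv (φ b⁻¹ v)
    rw [Module.End.mul_apply, Module.End.mul_apply]
    simp only [map_smul]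
    rw [← hca, ← hcb, map_smul, map_smul, ← hca, ← hcb]
    simp only [smul_smul]
    congr 1
    ring
  · let bs := Module.finBasisOfFinrankEq K (eigen l μ) h2
    let e := LinearMap.toMatrixAlgEquiv bs
    have h := OddTwo.commute_of_odd _ rfl hA ((e.toMulEquiv.toMonoidHom).comp φ) a⁻¹ b⁻¹
    exact e.injective (by rw [map_mul, map_mul]; exact h)

/-- Commutation on the whole group. -/
theorem commute_of_dim [Finite M] (h2 : ∀ m : M, m + m = 0) {r k : ℕ} (hr : Odd r) (hk : 0 < k)
    (hdvd : r ∣ 2 ^ k - 1) (hord : ∀ j, 0 < j → j < k → ¬ r ∣ 2 ^ j - 1) (hcard : Nat.card M ≤ 2 ^ (2 * k))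
    {l : AddMonoid.End M} (hl : l ^ r = 1) (hfix : ∀ i, 0 < i → i < r → ∀ m, (l ^ i) m = m → m = 0)
    {A : Type*} [Group A] [Finite A] (hA : Odd (Nat.card A)) (ψ : A →* AddMonoid.End M)
    (hcomm : ∀ a, ψ a * l = l * ψ a) (a b : A) : ψ a * ψ b = ψ b * ψ a := by
  classical
  let K := GaloisField 2 k
  letI : Fintype K := Fintype.ofFinite K
  have hK : Nat.card K = 2 ^ k := GaloisField.card 2 k hk.ne'
  obtain ⟨u, hu⟩ : ∃ u : Kˣ, orderOf u = r := by
    obtain ⟨g, hg⟩ := IsCyclic.exists_ofOrder_eq_natCard (α := Kˣ)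
    have hd : r ∣ orderOf g := by rw [hg, Nat.card_units, hK]; exact hdvd
    exact ⟨g ^ (orderOf g / r), orderOf_pow_orderOf_div (orderOf_pos g).ne' hd⟩
  have hω : IsPrimitiveRoot ((u : K)) r := by
    rw [← hu, ← orderOf_units]; exact IsPrimitiveRoot.orderOf _
  letI : Module (ZMod 2) M := AddCommGroup.zmodModule fun m => by rw [two_nsmul]; exact h2 m
  letI : Algebra (ZMod 2) K := inferInstance
  have hfin : Finite (M →+ K) := Finite.of_injective (fun f => (f : M → K)) DFunLike.coe_injective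
  have hbound : Nat.card (M →+ K) ≤ (Nat.card K ^ 2) ^ k := by
    let bM := Module.finBasis (ZMod 2) M
    have hinj : Function.Injective (fun (f : M →+ K) (i : Fin (Module.finrank (ZMod 2) M)) => f (bM i)) := by
      intro f g hfg
      have h : f.toZModLinearMap 2 = g.toZModLinearMap 2 := bM.ext fun i => congrFun hfg i
      exact AddMonoidHom.ext fun m => LinearMap.congr_fun h m
    have h := Nat.card_le_card_of_injective _ hinj
    rw [Nat.card_fun, Nat.card_fin] at h
    refine h.trans ?_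
    rw [← pow_mul]
    refine Nat.pow_le_pow_right Nat.card_pos ?_
    have hM := Module.natCard_eq_pow_finrank (K := ZMod 2) (V := M)
    rw [Nat.card_zmod] at hM
    rw [hM] at hcard
    exact (Nat.pow_le_pow_iff_right one_lt_two).1 hcard
  refine AddMonoidHom.ext fun m => ?_
  have key : ∀ f : M →+ K, f ((ψ a * ψ b) m) = f ((ψ b * ψ a) m) := by
    intro f
    rw [← sum_proj (l := l) hr hω f, ← sum_proj (l := l) hr hω f]
    refine sum_congr rfl fun j _ => ?_
    set μ := (u : K) ^ j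
    have hμ : μ ^ r = 1 := by rw [← pow_mul, mul_comm, pow_mul, hω.pow_eq_one, one_pow]
    have hμ0 : μ ≠ 0 := pow_ne_zero _ u.ne_zero
    have hg : projHom l r μ f ∈ eigen l μ := fun x => proj_apply_l hl hμ hμ0 f x
    by_cases hprim : IsPrimitiveRoot μ r
    · exact commute_on_eigen hA ψ hcomm (card_eigen_le hr hord hk hbound hprim) hg a b m
    -- a root of smaller order: the eigen-space is trivial
    have hzero : projHom l r μ f = 0 := by
      have hd : orderOf μ ∣ r := orderOf_dvd_of_pow_eq_one hμ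
      have hlt : orderOf μ < r := lt_of_le_of_ne (Nat.le_of_dvd hr.pos hd) fun h =>
        hprim (h ▸ IsPrimitiveRoot.orderOf μ)
      have hpos : 0 < orderOf μ := Nat.pos_of_ne_zero fun h => by
        rw [h, zero_dvd_iff] at hd; exact hr.pos.ne' hd
      have hinj : Function.Injective fun x : M => (l ^ orderOf μ) x - x := fun x y hxy => by
        have e : (l ^ orderOf μ) (x - y) = x - y := by
          rw [map_sub, sub_eq_sub_iff_sub_eq_sub.1 hxy]
        exact sub_eq_zero.1 (hfix _ hpos hlt _ e)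
      refine AddMonoidHom.ext fun x => ?_
      obtain ⟨y, hy⟩ := (Finite.injective_iff_surjective.1 hinj) x
      have hy' : (l ^ orderOf μ) y - y = x := hy
      rw [← hy', map_sub, pow_apply_eigen hg, pow_orderOf_eq_one, one_mul, sub_self]
      rfl
    show projHom l r μ f ((ψ a * ψ b) m) = projHom l r μ f ((ψ b * ψ a) m)
    rw [hzero]
    rfl
  by_contra hne
  obtain ⟨δ, hδ⟩ : ∃ δ : Module.Dual (ZMod 2) M, δ ((ψ a * ψ b) m - (ψ b * ψ a) m) ≠ 0 := by
    by_contra hc
    push Not at hc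
    exact hne (sub_eq_zero.1 ((Module.forall_dual_apply_eq_zero_iff (ZMod 2) _).1 hc))
  refine hδ ?_
  have h := key ((algebraMap (ZMod 2) K).toAddMonoidHom.comp δ.toAddMonoidHom)
  rw [map_sub, sub_eq_zero]
  exact (algebraMap (ZMod 2) K).injective h

end CfsgLib.Bender.SquareModule
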